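import Cfsg.Agent.Lib.C4.Scal

/-!
# Splitting off one factor of a tensor power

`T i a u` is `a ⊗ u` with `u` in position `i`, `ct i α` the contraction of that position with `α`,
`lc i ψ` the contraction of the other positions, `kr i A B` is `A ⊗ B`, `rt i k u α` is
`1 + k ⊗ (u α)`.
-/

set_option autoImplicit false
set_option linter.unusedSectionVars false

namespace Cfsg.Agent.C7

open Matrix Module Cfsg.Agent.Transvect
open scoped MatrixGroups Kronecker

variable {F : Type*} [Field F] {m t : ℕ}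

/-- The index set of the `t`-th tensor power of `F^m`. -/
abbrev J (m t : ℕ) : Type := Fin t → Fin m

/-- The index `g` with `c` inserted in position `i`. -/
abbrev ins (i : Fin (t + 1)) (c : Fin m) (g : J m t) : J m (t + 1) := i.insertNth c g

lemma ins_self (i : Fin (t + 1)) (f : J m (t + 1)) :
    ins i (f i) (fun j => f (i.succAbove j)) = f :=
  Fin.insertNth_eq_iff.2 ⟨rfl, rfl⟩

/-- The pure tensor `a ⊗ u`, `u` in position `i`. -/
def T (i : Fin (t + 1)) : (J m t → F) →ₗ[F] (Fin m → F) →ₗ[F] (J m (t + 1) → F) :=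
  LinearMap.mk₂ F (fun a u f => a (fun j => f (i.succAbove j)) * u (f i))
    (fun a a' u => by funext f; simp [add_mul])
    (fun c a u => by funext f; simp [mul_assoc])
    (fun a u u' => by funext f; simp [mul_add])
    (fun c a u => by funext f; simp [mul_left_comm])

lemma T_apply (i : Fin (t + 1)) (a : J m t → F) (u : Fin m → F) (f : J m (t + 1)) :
    T i a u f = a (fun j => f (i.succAbove j)) * u (f i) := rfl

@[simp] lemma T_ins (i : Fin (t + 1)) (a : J m t → F) (u : Fin m → F) (c : Fin m) (g : J m t) :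
    T i a u (ins i c g) = a g * u c := by
  simp [T_apply, ins]

/-- The contraction of position `i` with `α`. -/
def ct (i : Fin (t + 1)) (α : (Fin m → F) →ₗ[F] F) : (J m (t + 1) → F) →ₗ[F] (J m t → F) where
  toFun x g := α fun c => x (ins i c g)
  map_add' x y := funext fun g => map_add α _ _
  map_smul' c x := funext fun g => map_smul α _ _

lemma ct_apply (i : Fin (t + 1)) (α : (Fin m → F) →ₗ[F] F) (x : J m (t + 1) → F) (g : J m t) :
    ct i α x g = α fun c => x (ins i c g) := rfl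

@[simp] lemma ct_T (i : Fin (t + 1)) (α : (Fin m → F) →ₗ[F] F) (a : J m t → F) (u : Fin m → F) :
    ct i α (T i a u) = α u • a := by
  funext g
  rw [ct_apply, show (fun c => T i a u (ins i c g)) = a g • u from funext fun c => T_ins i a u c g,
    map_smul]
  simp [mul_comm]

lemma ct_add (i : Fin (t + 1)) (α β : (Fin m → F) →ₗ[F] F) (x : J m (t + 1) → F) :
    ct i (α + β) x = ct i α x + ct i β x := rfl

lemma ct_smul (i : Fin (t + 1)) (c : F) (α : (Fin m → F) →ₗ[F] F) (x : J m (t + 1) → F) :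
    ct i (c • α) x = c • ct i α x := rfl

lemma ct_zero (i : Fin (t + 1)) (x : J m (t + 1) → F) : ct i 0 x = 0 := rfl

lemma ct_neg (i : Fin (t + 1)) (α : (Fin m → F) →ₗ[F] F) (x : J m (t + 1) → F) :
    ct i (-α) x = -ct i α x := rfl

/-- The contraction of the positions other than `i` with `ψ`. -/
def lc (i : Fin (t + 1)) (ψ : (J m t → F) →ₗ[F] F) : (J m (t + 1) → F) →ₗ[F] (Fin m → F) where
  toFun x c := ψ fun g => x (ins i c g)
  map_add' x y := funext fun c => map_add ψ _ _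
  map_smul' c x := funext fun _ => map_smul ψ _ _

lemma lc_apply (i : Fin (t + 1)) (ψ : (J m t → F) →ₗ[F] F) (x : J m (t + 1) → F) (c : Fin m) :
    lc i ψ x c = ψ fun g => x (ins i c g) := rfl

@[simp] lemma lc_T (i : Fin (t + 1)) (ψ : (J m t → F) →ₗ[F] F) (a : J m t → F) (u : Fin m → F) :
    lc i ψ (T i a u) = ψ a • u := by
  funext c
  rw [lc_apply, show (fun g => T i a u (ins i c g)) = u c • a from
    funext fun g => by simp [mul_comm], map_smul]
  simp [mul_comm]

lemma sum_T_single (i : Fin (t + 1)) (x : J m (t + 1) → F) :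
    ∑ c, T i (fun g => x (ins i c g)) (Pi.single c 1) = x := by
  funext f
  rw [Finset.sum_apply, Finset.sum_eq_single (f i)]
  · simp [T_apply, ins_self]
  · intro c _ hc; simp [T_apply, Pi.single_eq_of_ne (Ne.symm hc)]
  · simp

/-- Linear maps agreeing on pure tensors are equal. -/
lemma lin_ext (i : Fin (t + 1)) {M : Type*} [AddCommGroup M] [Module F M]
    {f g : (J m (t + 1) → F) →ₗ[F] M} (h : ∀ a u, f (T i a u) = g (T i a u)) : f = g := by
  refine LinearMap.ext fun x => ?_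
  rw [← sum_T_single i x, map_sum, map_sum]
  exact Finset.sum_congr rfl fun c _ => h _ _

lemma gl_ext_T (i : Fin (t + 1)) {g h : GL (J m (t + 1)) F}
    (H : ∀ a u, app g (T i a u) = app h (T i a u)) : g = h :=
  gl_ext fun x => LinearMap.congr_fun
    (lin_ext i (f := (app g).toLinearMap) (g := (app h).toLinearMap) H) x

lemma lc_ct (i : Fin (t + 1)) (β : (Fin m → F) →ₗ[F] F) (ψ : (J m t → F) →ₗ[F] F)
    (x : J m (t + 1) → F) : β (lc i ψ x) = ψ (ct i β x) := by
  have h : β ∘ₗ lc i ψ = ψ ∘ₗ ct i β := lin_ext i fun a u => by simp [mul_comm]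
  exact LinearMap.congr_fun h x

lemma exists_dual {κ : Type*} {u : κ → F} (hu : u ≠ 0) : ∃ α : (κ → F) →ₗ[F] F, α u = 1 := by
  obtain ⟨i, hi⟩ := Function.ne_iff.1 hu
  exact ⟨(u i)⁻¹ • LinearMap.proj i, inv_mul_cancel₀ hi⟩

lemma T_inj_left {i : Fin (t + 1)} {u : Fin m → F} (hu : u ≠ 0) {a b : J m t → F}
    (h : T i a u = T i b u) : a = b := by
  obtain ⟨α, hα⟩ := exists_dual hu
  simpa [hα] using congrArg (ct i α) h

lemma T_inj_right {i : Fin (t + 1)} {a : J m t → F} (ha : a ≠ 0) {u v : Fin m → F}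
    (h : T i a u = T i a v) : u = v := by
  obtain ⟨ψ, hψ⟩ := exists_dual ha
  simpa [hψ] using congrArg (lc i ψ) h

lemma T_eq_zero {i : Fin (t + 1)} {a : J m t → F} {u : Fin m → F} (h : T i a u = 0) :
    a = 0 ∨ u = 0 := by
  by_cases hu : u = 0
  · exact .inr hu
  · exact .inl (T_inj_left (i := i) hu (b := 0) (by simpa using h))

/-- `W ⊗ ⋯ ⊗ u ⊗ ⋯ ⊗ W`, `u` in position `i`. -/
def Li (i : Fin (t + 1)) (u : Fin m → F) : Submodule F (J m (t + 1) → F) :=
  LinearMap.range ((T i).flip u)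

lemma T_mem_Li (i : Fin (t + 1)) (a : J m t → F) (u : Fin m → F) : T i a u ∈ Li i u := ⟨a, rfl⟩

lemma mem_Li {i : Fin (t + 1)} {u : Fin m → F} {x : J m (t + 1) → F} :
    x ∈ Li i u ↔ ∃ a, T i a u = x := Iff.rfl

lemma finrank_Li (i : Fin (t + 1)) {u : Fin m → F} (hu : u ≠ 0) :
    finrank F (Li i u) = m ^ t := by
  rw [Li, LinearMap.finrank_range_of_inj (fun a b h => T_inj_left hu h)]
  simp

lemma ct_Li {i : Fin (t + 1)} {α : (Fin m → F) →ₗ[F] F} {u : Fin m → F} (h : α u = 0)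
    {x : J m (t + 1) → F} (hx : x ∈ Li i u) : ct i α x = 0 := by
  obtain ⟨a, rfl⟩ := hx
  simp [h]

lemma mem_Li_of_ct {i : Fin (t + 1)} {u : Fin m → F} {x : J m (t + 1) → F}
    (h : ∀ α : (Fin m → F) →ₗ[F] F, α u = 0 → ct i α x = 0) : x ∈ Li i u := by
  have hrow : ∀ g, (fun c => x (ins i c g)) ∈ F ∙ u := fun g => by
    by_contra hn
    obtain ⟨f, hf1, hf2⟩ := Submodule.exists_le_ker_of_notMem hn
    exact hf1 (congrFun (h f (hf2 (Submodule.mem_span_singleton_self u))) g)
  choose a ha using fun g => Submodule.mem_span_singleton.1 (hrow g)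
  refine ⟨a, funext fun f => ?_⟩
  have h1 := congrFun (ha fun j => f (i.succAbove j)) (f i)
  simp only [Pi.smul_apply, smul_eq_mul, ins_self] at h1
  simpa [T_apply] using h1

/-! ### Elements -/

/-- The element `A ⊗ B`, `B` in position `i`. -/
noncomputable def kr (i : Fin (t + 1)) (A : GL (J m t) F) (B : GL (Fin m) F) :
    GL (J m (t + 1)) F :=
  Cfsg.Geo.glReindex (Fin.insertNthEquiv (fun _ => Fin m) i)
    ⟨(B : Matrix (Fin m) (Fin m) F) ⊗ₖ (A : Matrix (J m t) (J m t) F),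
      ((B⁻¹ : GL (Fin m) F) : Matrix (Fin m) (Fin m) F) ⊗ₖ
        ((A⁻¹ : GL (J m t) F) : Matrix (J m t) (J m t) F),
      by rw [← Matrix.mul_kronecker_mul]; simp, by rw [← Matrix.mul_kronecker_mul]; simp⟩

lemma kr_val (i : Fin (t + 1)) (A : GL (J m t) F) (B : GL (Fin m) F) (f g : J m (t + 1)) :
    (kr i A B : Matrix (J m (t + 1)) (J m (t + 1)) F) f g =
      (B : Matrix (Fin m) (Fin m) F) (f i) (g i) *
        (A : Matrix (J m t) (J m t) F) (fun j => f (i.succAbove j)) (fun j => g (i.succAbove j)) := by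
  simp [kr, Cfsg.Geo.glReindex, Matrix.kroneckerMap_apply, Fin.insertNthEquiv, Fin.removeNth]
  exact .inl rfl

lemma app_kr (i : Fin (t + 1)) (A : GL (J m t) F) (B : GL (Fin m) F) (a : J m t → F)
    (u : Fin m → F) : app (kr i A B) (T i a u) = T i (app A a) (app B u) := by
  funext f
  simp only [app_apply, Matrix.mulVec, dotProduct, kr_val, T_apply]
  rw [← (Fin.insertNthEquiv (fun _ => Fin m) i).sum_comp, Fintype.sum_prod_type, Finset.sum_mul_sum,
    Finset.sum_comm]
  refine Finset.sum_congr rfl fun g _ => Finset.sum_congr rfl fun c _ => ?_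
  simp [Fin.insertNthEquiv]
  ring

lemma kr_mul (i : Fin (t + 1)) (A A' : GL (J m t) F) (B B' : GL (Fin m) F) :
    kr i A B * kr i A' B' = kr i (A * A') (B * B') :=
  gl_ext_T i fun a u => by simp only [map_mul, LinearEquiv.mul_apply, app_kr]

lemma kr_one (i : Fin (t + 1)) : kr i (1 : GL (J m t) F) (1 : GL (Fin m) F) = 1 :=
  gl_ext_T i fun a u => by simp only [app_kr, map_one, LinearEquiv.coe_one, id_eq]

lemma kr_inv (i : Fin (t + 1)) (A : GL (J m t) F) (B : GL (Fin m) F) :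
    (kr i A B)⁻¹ = kr i A⁻¹ B⁻¹ :=
  inv_eq_of_mul_eq_one_right (by rw [kr_mul, mul_inv_cancel, mul_inv_cancel, kr_one])

lemma det_kr (i : Fin (t + 1)) (A : GL (J m t) F) (B : GL (Fin m) F) :
    (kr i A B : Matrix (J m (t + 1)) (J m (t + 1)) F).det =
      (A : Matrix (J m t) (J m t) F).det ^ m * (B : Matrix (Fin m) (Fin m) F).det ^ (m ^ t) := by
  simp [kr, Cfsg.Geo.glReindex, Matrix.det_kronecker, mul_comm]

lemma kr_mem_sl (i : Fin (t + 1)) {A : GL (J m t) F} {B : GL (Fin m) F}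
    (hA : A ∈ Cfsg.Geo.specialLinear (J m t) F) (hB : B ∈ Cfsg.Geo.specialLinear (Fin m) F) :
    kr i A B ∈ Cfsg.Geo.specialLinear (J m (t + 1)) F := by
  rw [mem_sl_iff, det_kr, mem_sl_iff.1 hA, mem_sl_iff.1 hB]; simp

/-- `x ↦ x + k(ct α x) ⊗ u`. -/
noncomputable def rt (i : Fin (t + 1)) (k : (J m t → F) →ₗ[F] (J m t → F)) (u : Fin m → F)
    (α : (Fin m → F) →ₗ[F] F) : GL (J m (t + 1)) F :=
  C4.unip ((T i).flip u ∘ₗ k ∘ₗ ct i α)

variable {i : Fin (t + 1)} {u : Fin m → F} {α : (Fin m → F) →ₗ[F] F}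

lemma rt_apply (h : α u = 0) (k : (J m t → F) →ₗ[F] (J m t → F)) (x : J m (t + 1) → F) :
    app (rt i k u α) x = x + T i (k (ct i α x)) u := by
  rw [rt, C4.unip_apply fun y => ?_]
  · rfl
  · show T i (k (ct i α (T i (k (ct i α y)) u))) u = 0
    rw [ct_T, h]; simp

lemma rt_T (h : α u = 0) (k : (J m t → F) →ₗ[F] (J m t → F)) (a : J m t → F) (q : Fin m → F) :
    app (rt i k u α) (T i a q) = T i a q + α q • T i (k a) u := by
  rw [rt_apply h, ct_T, map_smul, map_smul, LinearMap.smul_apply]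

lemma rt_one_eq (h : α u = 0) : rt i LinearMap.id u α = kr i 1 (tv u α) :=
  gl_ext_T i fun a q => by
    rw [rt_T h, app_kr, tv_apply h]
    simp

lemma rt_mem_sl [Finite F] (i : Fin (t + 1)) (k : (J m t → F) →ₗ[F] (J m t → F)) (u : Fin m → F)
    (α : (Fin m → F) →ₗ[F] F) : rt i k u α ∈ Cfsg.Geo.specialLinear (J m (t + 1)) F :=
  C4.unip_mem_sl _

lemma res_rt (h : α u = 0) (hα : α ≠ 0) : C4.res (rt i LinearMap.id u α) = Li i u := by
  refine le_antisymm (C4.res_le fun x => ?_) ?_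
  · rw [rt_apply h, add_sub_cancel_left]; exact T_mem_Li _ _ _
  · rintro _ ⟨a, rfl⟩
    obtain ⟨w, hw⟩ := LinearMap.surjective_of_ne_zero hα 1
    refine ⟨T i a w, ?_⟩
    show app (rt i LinearMap.id u α) (T i a w) - T i a w = T i a u
    rw [rt_T h, add_sub_cancel_left, hw, one_smul, LinearMap.id_apply]

lemma rt_fix (h : α u = 0) (k : (J m t → F) →ₗ[F] (J m t → F)) {x : J m (t + 1) → F}
    (hx : ct i α x = 0) : app (rt i k u α) x = x := by
  rw [rt_apply h, hx]; simp

lemma ct_eq_of_fix (h : α u = 0) (hu : u ≠ 0) {x : J m (t + 1) → F}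
    (hx : app (rt i LinearMap.id u α) x = x) : ct i α x = 0 := by
  rw [rt_apply h, add_eq_left] at hx
  exact (T_eq_zero hx).resolve_right hu

lemma rt_inv (h : α u = 0) (k : (J m t → F) →ₗ[F] (J m t → F)) :
    (rt i k u α)⁻¹ = rt i (-k) u α :=
  inv_eq_of_mul_eq_one_right (gl_ext_T i fun a q => by
    rw [map_mul, LinearEquiv.mul_apply, rt_T h, map_add, map_smul, rt_T h, rt_T h, h, map_one]
    simp)

lemma rt_mul (h : α u = 0) (k k' : (J m t → F) →ₗ[F] (J m t → F)) :
    rt i k u α * rt i k' u α = rt i (k + k') u α :=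
  gl_ext_T i fun a q => by
    rw [map_mul, LinearEquiv.mul_apply, rt_T h, map_add, map_smul, rt_T h, rt_T h, h, rt_T h]
    simp [smul_add]
    abel

lemma rt_zero (h : α u = 0) : rt i 0 u α = 1 :=
  gl_ext fun x => by rw [rt_apply h]; simp

lemma rt_smul_one (h : α u = 0) {k : (J m t → F) →ₗ[F] (J m t → F)} {c : F}
    (hk : ∀ a, k a = c • a) : rt i k u α = rt i LinearMap.id u (c • α) :=
  gl_ext fun x => by
    rw [rt_apply h, rt_apply (show (c • α) u = 0 by simp [h]), ct_smul, LinearMap.id_apply, hk]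

/-- Conjugates of `rt` by elements mapping one splitting to another. -/
lemma conj_rt {l : Fin (t + 1)} {h : GL (J m (t + 1)) F} {A : GL (J m t) F} {B : GL (Fin m) F}
    (hh : ∀ a q, app h (T i a q) = T l (app A a) (app B q)) (hαu : α u = 0)
    (k : (J m t → F) →ₗ[F] (J m t → F)) :
    h * rt i k u α * h⁻¹ = rt l ((app A).toLinearMap ∘ₗ k ∘ₗ (app A⁻¹).toLinearMap) (app B u)
      (α ∘ₗ (app B⁻¹).toLinearMap) := by
  have h' : (α ∘ₗ (app B⁻¹).toLinearMap) (app B u) = 0 := by
    simp only [LinearMap.comp_apply, LinearEquiv.coe_coe, app_inv_app, hαu]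
  rw [mul_inv_eq_iff_eq_mul]
  refine gl_ext_T i fun a q => ?_
  simp only [map_mul, LinearEquiv.mul_apply, rt_T hαu, hh, map_add, map_smul, rt_T h',
    LinearMap.comp_apply, LinearEquiv.coe_coe, app_inv_app]

lemma conj_rt_one {l : Fin (t + 1)} {h : GL (J m (t + 1)) F} {A : GL (J m t) F} {B : GL (Fin m) F}
    (hh : ∀ a q, app h (T i a q) = T l (app A a) (app B q)) (hαu : α u = 0) :
    h * rt i LinearMap.id u α * h⁻¹ =
      rt l LinearMap.id (app B u) (α ∘ₗ (app B⁻¹).toLinearMap) := by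
  rw [conj_rt hh hαu]
  congr 1
  exact LinearMap.ext fun a => by simp

lemma exists_gl {κ : Type} [Fintype κ] [DecidableEq κ] (f : (κ → F) →ₗ[F] (κ → F))
    (hf : Function.Injective f) : ∃ A : GL κ F, ∀ x, app A x = f x := by
  let e := LinearEquiv.ofInjectiveEndo f hf
  refine ⟨⟨LinearMap.toMatrix' e.toLinearMap, LinearMap.toMatrix' e.symm.toLinearMap, ?_, ?_⟩,
    fun x => ?_⟩
  · rw [← LinearMap.toMatrix'_comp, LinearEquiv.comp_symm, LinearMap.toMatrix'_id]
  · rw [← LinearMap.toMatrix'_comp, LinearEquiv.symm_comp, LinearMap.toMatrix'_id]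
  · rw [app_apply]
    exact LinearMap.toMatrix'_mulVec _ _

end Cfsg.Agent.C7
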