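import Cfsg.Agent.Lib.C7.Slots

/-!
# A non-scalar root gives a product of matrix units

If `M` contains the stabiliser and some `rt i k u α` with `k` not scalar, then it contains some
`1 + c ⊗_{l ∈ S} E (a l) (b l)` with `|S| ≥ 2`.
-/

set_option autoImplicit false
set_option linter.unusedSectionVars false

namespace Cfsg.Agent.C7

open Matrix Module Cfsg.Agent.Transvect
open scoped MatrixGroups

variable {F : Type*} [Field F] {m t : ℕ}

/-- `1 + k ⊗ (u α) ∈ M` forces `k` to be scalar. -/
def Scal (M : Subgroup (GL (J m (t + 1)) F)) : Prop :=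
  ∀ (i : Fin (t + 1)) (k : (J m t → F) →ₗ[F] (J m t → F)) (u : Fin m → F)
    (α : (Fin m → F) →ₗ[F] F),
    u ≠ 0 → α ≠ 0 → α u = 0 → rt i k u α ∈ M → ∃ c : F, ∀ a, k a = c • a

/-- `1 + c ⊗_{l ∈ S} E (a l) (b l)`. -/
noncomputable def Rl (S : Finset (Fin t)) (a b : J m t) (c : F) : GL (J m t) F :=
  C4.unip (c • Lop S a b)

lemma Rl_apply {S : Finset (Fin t)} {a b : J m t} (h : ∃ l ∈ S, a l ≠ b l) (c : F)
    (x : J m t → F) : app (Rl S a b c) x = x + c • Lop S a b x :=
  C4.unip_apply (fun y => by
    simp only [LinearMap.smul_apply, map_smul]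
    rw [← Module.End.mul_apply, Lop_mul_self h]
    simp) x

section

variable [Fintype F]

lemma kr_one_mem_stab (i : Fin (t + 1)) {B : GL (Fin m) F}
    (hB : B ∈ Cfsg.Geo.specialLinear (Fin m) F) : kr i 1 B ∈ stab F m (t + 1) :=
  ⟨kr_one_mem i B, kr_mem_sl i (one_mem _) hB⟩

lemma kr_left_mem_stab (i : Fin (t + 1)) {A : GL (J m t) F} (hA : A ∈ stab F m t) :
    kr i A 1 ∈ stab F m (t + 1) :=
  ⟨kr_left_mem i hA.1, kr_mem_sl i hA.2 (one_mem _)⟩

lemma rt_one_mem_stab {i : Fin (t + 1)} {u : Fin m → F} {α : (Fin m → F) →ₗ[F] F} (h : α u = 0) :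
    rt i LinearMap.id u α ∈ stab F m (t + 1) := by
  rw [rt_one_eq h]; exact kr_one_mem_stab i (tv_mem_sl _ _)

lemma unip_E_mem (j : Fin t) {a b : Fin m} (hab : a ≠ b) (c : F) :
    Rl {j} (fun _ => a) (fun _ => b) c ∈ stab F m t := by
  cases t with
  | zero => exact j.elim0
  | succ s =>
    have h0 : (c • LinearMap.proj b : (Fin m → F) →ₗ[F] F) (Pi.single a 1) = 0 := by
      simp [hab.symm]
    have e : Rl {j} (fun _ => a) (fun _ => b) c =
        rt j LinearMap.id (Pi.single a 1) (c • LinearMap.proj b) := by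
      refine gl_ext fun x => funext fun f => ?_
      rw [Rl_apply ⟨j, Finset.mem_singleton_self j, hab⟩, rt_apply h0, ct_smul]
      show x f + c • E j a b x f = x f + T j (c • ct j (LinearMap.proj b) x) (Pi.single a 1) f
      rw [E_apply, T_apply, Pi.smul_apply]
      by_cases h : f j = a
      · rw [if_pos h, h, Pi.single_eq_same, mul_one]
        congr 2
        show _ = x (ins j b fun l => f (j.succAbove l))
        congr 1
        exact (Fin.insertNth_eq_iff.2 ⟨by simp, by funext l; simp [Fin.removeNth]⟩).symm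
      · rw [if_neg h, Pi.single_eq_of_ne h]; simp
    rw [e]
    exact rt_one_mem_stab h0

variable {M : Subgroup (GL (J m (t + 1)) F)}

/-- The maps `k` with all `rt i k u α` in `M`. -/
noncomputable def kSub (M : Subgroup (GL (J m (t + 1)) F)) (i : Fin (t + 1)) :
    Submodule F ((J m t → F) →ₗ[F] (J m t → F)) where
  carrier := {k | ∀ u α, u ≠ 0 → α u = 0 → rt i k u α ∈ M}
  add_mem' hk hk' u α hu h := by
    rw [← rt_mul h]; exact mul_mem (hk u α hu h) (hk' u α hu h)
  zero_mem' u α _ h := by rw [rt_zero h]; exact one_mem _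
  smul_mem' c k hk u α hu h := by
    have e : rt i (c • k) u α = rt i k u (c • α) := gl_ext fun x => by
      rw [rt_apply h, rt_apply (show (c • α) u = 0 by simp [h]), ct_smul, LinearMap.smul_apply,
        map_smul k]
    rw [e]
    exact hk _ _ hu (by simp [h])

lemma mem_kSub (hm : 3 ≤ m) (hM : stab F m (t + 1) ≤ M) {i : Fin (t + 1)}
    {k : (J m t → F) →ₗ[F] (J m t → F)} {u : Fin m → F} {α : (Fin m → F) →ₗ[F] F}
    (hu : u ≠ 0) (hα : α ≠ 0) (h : α u = 0) (hk : rt i k u α ∈ M) : k ∈ kSub M i := by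
  intro u' α' hu' h'
  by_cases hα' : α' = 0
  · have e : rt i k u' α' = 1 := gl_ext fun x => by rw [rt_apply h', hα', ct_zero]; simp
    rw [e]; exact one_mem _
  obtain ⟨B, hB, e1, e2⟩ := C4.TData.exists_sl_pair hm hu hu' hα hα' h h'
  have hg : kr i 1 B ∈ M := hM (kr_one_mem_stab i hB)
  have := mul_mem (mul_mem hg hk) (inv_mem hg)
  rw [conj_rt (h := kr i 1 B) (app_kr i 1 B) h, e1, e2] at this
  convert this using 2
  exact LinearMap.ext fun a => by simp

lemma kSub_delta (hM : stab F m (t + 1) ≤ M) {i : Fin (t + 1)}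
    {k : Module.End F (J m t → F)} (hk : k ∈ kSub M i) (j : Fin t) {a b : Fin m} (hab : a ≠ b) :
    E j a b * k - k * E j a b - E j a b * k * E j a b ∈ kSub M i := by
  set A := Rl {j} (fun _ => a) (fun _ => b) (1 : F) with hA
  have hg : kr i A 1 ∈ M := hM (kr_left_mem_stab i (unip_E_mem j hab 1))
  have hsq : (E j a b * E j a b : Module.End F (J m t → F)) = 0 := by rw [E_mul, if_neg hab.symm]
  have hAx : ∀ x, app A x = x + E j a b x := fun x => by
    rw [hA, Rl_apply ⟨j, Finset.mem_singleton_self j, hab⟩, one_smul]; rfl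
  have hAi : ∀ x, app A⁻¹ x = x - E j a b x := fun x => by
    apply (app A).injective
    rw [app_app_inv, hAx, map_sub, show E j a b (E j a b x) = (E j a b * E j a b :
      Module.End F (J m t → F)) x from rfl, hsq]
    simp
  have h1 : (app A).toLinearMap ∘ₗ k ∘ₗ (app A⁻¹).toLinearMap ∈ kSub M i := by
    intro u α hu h
    have := mul_mem (mul_mem hg (hk u α hu h)) (inv_mem hg)
    rw [conj_rt (h := kr i A 1) (app_kr i A 1) h] at this
    convert this using 2
    · simp
    · exact LinearMap.ext fun x => by simp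
  have h2 := Submodule.sub_mem _ h1 hk
  convert h2 using 1
  refine LinearMap.ext fun x => ?_
  simp only [LinearMap.sub_apply, Module.End.mul_apply, LinearMap.comp_apply, LinearEquiv.coe_coe,
    hAi, hAx, map_sub]
  abel

lemma kSub_EkE (hm : 3 ≤ m) (hM : stab F m (t + 1) ≤ M) {i : Fin (t + 1)}
    {k : Module.End F (J m t → F)} (hk : k ∈ kSub M i) (j : Fin t) {a c : Fin m} (hac : a ≠ c) :
    E j a c * k * E j a c ∈ kSub M i := by
  obtain ⟨b, hb⟩ : ∃ b, b ∉ ({a, c} : Finset (Fin m)) := by
    by_contra! h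
    have := Finset.card_le_card (fun x _ => h x : (Finset.univ : Finset (Fin m)) ⊆ {a, c})
    rw [Finset.card_univ, Fintype.card_fin] at this
    have := this.trans Finset.card_le_two
    omega
  simp only [Finset.mem_insert, Finset.mem_singleton, not_or] at hb
  obtain ⟨hba, hbc⟩ := hb
  have h3 := kSub_delta hM (kSub_delta hM (kSub_delta hM hk j hac) j (Ne.symm hba)) j hbc
  convert h3 using 1
  set P : Module.End F (J m t → F) := E j a c
  set Q : Module.End F (J m t → F) := E j a b
  set R : Module.End F (J m t → F) := E j b c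
  have r1 : P * P = 0 := by rw [E_mul, if_neg hac.symm]
  have r2 : Q * Q = 0 := by rw [E_mul, if_neg hba]
  have r3 : R * R = 0 := by rw [E_mul, if_neg (Ne.symm hbc)]
  have r4 : P * Q = 0 := by rw [E_mul, if_neg hac.symm]
  have r5 : Q * P = 0 := by rw [E_mul, if_neg hba]
  have r6 : R * Q = 0 := by rw [E_mul, if_neg hac.symm]
  have r7 : R * P = 0 := by rw [E_mul, if_neg hac.symm]
  have r8 : P * R = 0 := by rw [E_mul, if_neg (Ne.symm hbc)]
  have r9 : Q * R = P := by rw [E_mul, if_pos rfl]
  have s1 : ∀ X, P * (P * X) = 0 := fun X => by rw [← mul_assoc, r1, zero_mul]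
  have s2 : ∀ X, Q * (Q * X) = 0 := fun X => by rw [← mul_assoc, r2, zero_mul]
  have s4 : ∀ X, P * (Q * X) = 0 := fun X => by rw [← mul_assoc, r4, zero_mul]
  have s5 : ∀ X, Q * (P * X) = 0 := fun X => by rw [← mul_assoc, r5, zero_mul]
  have s6 : ∀ X, R * (Q * X) = 0 := fun X => by rw [← mul_assoc, r6, zero_mul]
  have s7 : ∀ X, R * (P * X) = 0 := fun X => by rw [← mul_assoc, r7, zero_mul]
  have s8 : ∀ X, P * (R * X) = 0 := fun X => by rw [← mul_assoc, r8, zero_mul]
  have s9 : ∀ X, Q * (R * X) = P * X := fun X => by rw [← mul_assoc, r9]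
  simp only [mul_sub, sub_mul, mul_assoc]
  simp only [s1, s2, s4, s5, s6, s7, s8, s9, r1, r2, r4, r5, r6, r8, r9, mul_zero]
  abel

/-- A sandwiched operator in one position is a unit times an operator free of that position. -/
lemma exists_free {X : Module.End F (J m t → F)} {j : Fin t} {a b : Fin m}
    (hX : X = E j a a * X * E j b b) :
    ∃ Z, X = E j a b * Z ∧ (∀ c d, Commute Z (E j c d)) ∧
      ∀ l, l ≠ j → (∀ c d, Commute X (E l c d)) → ∀ c d, Commute Z (E l c d) := by
  refine ⟨∑ d, E j d a * X * E j b d, ?_, fun c d => ?_, fun l hl h c d => ?_⟩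
  · rw [Finset.mul_sum, Finset.sum_eq_single b]
    · rw [← mul_assoc, ← mul_assoc, E_mul, if_pos rfl]
      exact hX
    · intro d _ hd; rw [← mul_assoc, ← mul_assoc, E_mul, if_neg (Ne.symm hd), zero_mul, zero_mul]
    · simp
  · show _ = _
    rw [Finset.sum_mul, Finset.mul_sum, Finset.sum_eq_single c, Finset.sum_eq_single d]
    · rw [mul_assoc _ (E j b c), E_mul, if_pos rfl, ← mul_assoc, ← mul_assoc, E_mul, if_pos rfl]
    · intro e _ he; rw [← mul_assoc, ← mul_assoc, E_mul, if_neg (Ne.symm he), zero_mul, zero_mul]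
    · simp
    · intro e _ he; rw [mul_assoc _ (E j b e), E_mul, if_neg he, mul_zero]
    · simp
  · have hE : ∀ p q, Commute (E j p q : Module.End F (J m t → F)) (E l c d) := fun p q =>
      Lop_comm_E (by simpa using hl) _ _ c d
    exact Commute.sum_left _ _ _ fun e _ => ((hE e a).mul_left (h c d)).mul_left (hE b e)

theorem exists_unit (hm : 3 ≤ m) (hM : stab F m (t + 1) ≤ M) (hns : ¬ Scal M) :
    ∃ (i : Fin (t + 1)) (S : Finset (Fin t)) (a b : J m t),
      S.Nonempty ∧ (∀ l ∈ S, a l ≠ b l) ∧ (Lop S a b : Module.End F (J m t → F)) ∈ kSub M i := by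
  classical
  unfold Scal at hns
  push Not at hns
  obtain ⟨i, k, u, α, hu, hα, h0, hk, hk'⟩ := hns
  have hkK : k ∈ kSub M i := mem_kSub hm hM hu hα h0 hk
  refine ⟨i, ?_⟩
  -- progressively free the positions
  have key : ∀ D : Finset (Fin t), ∃ (S : Finset (Fin t)) (a b : J m t)
      (Z : Module.End F (J m t → F)), S ⊆ D ∧ (∀ l ∈ S, a l ≠ b l) ∧ Lop S a b * Z ∈ kSub M i ∧
        (S = ∅ → Z = k) ∧ Z ≠ 0 ∧ ∀ l ∈ D, ∀ c d, Commute Z (E l c d) := by
    intro D
    induction D using Finset.induction_on with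
    | empty =>
      have : Nonempty (J m t) := ⟨fun _ => ⟨0, by omega⟩⟩
      obtain ⟨o⟩ := this
      refine ⟨∅, o, o, k, subset_rfl, by simp, by rw [Lop_empty, one_mul]; exact hkK, fun _ => rfl,
        fun h => ?_, by simp⟩
      obtain ⟨x, hx⟩ := hk' 0
      exact hx (by rw [h]; simp)
    | @insert j D hjD ih =>
      obtain ⟨S, a, b, Z, hSD, hab, hmem, hSk, hZ, hcomm⟩ := ih
      have hjS : j ∉ S := fun h => hjD (hSD h)
      have hL : ∀ c d, Commute (Lop S a b : Module.End F (J m t → F)) (E j c d) :=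
        fun c d => Lop_comm_E hjS a b c d
      -- a sandwiched piece extends `S`
      have grow : ∀ (Y : Module.End F (J m t → F)) (p q : Fin m), p ≠ q → Y ≠ 0 →
          Y = E j p p * Y * E j q q → Lop S a b * Y ∈ kSub M i →
          (∀ l ∈ D, ∀ c d, Commute Y (E l c d)) →
          ∃ (S' : Finset (Fin t)) (a' b' : J m t) (Z' : Module.End F (J m t → F)),
            S' ⊆ insert j D ∧ (∀ l ∈ S', a' l ≠ b' l) ∧ Lop S' a' b' * Z' ∈ kSub M i ∧
              (S' = ∅ → Z' = k) ∧ Z' ≠ 0 ∧ ∀ l ∈ insert j D, ∀ c d, Commute Z' (E l c d) := by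
        intro Y p q hpq hY hsand hYmem hYc
        obtain ⟨Z', e, hj, hl⟩ := exists_free hsand
        refine ⟨insert j S, Function.update a j p, Function.update b j q, Z',
          Finset.insert_subset_insert _ hSD, fun l hl => ?_, ?_, fun h => ?_, fun h => ?_,
          fun l hl' c d => ?_⟩
        · by_cases hlj : l = j
          · subst hlj; simpa using hpq
          · simpa [hlj] using hab l ((Finset.mem_insert.1 hl).resolve_left hlj)
        · rwa [← Lop_insert hjS, mul_assoc, ← e]
        · exact absurd h (Finset.insert_ne_empty _ _)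
        · exact hY (by rw [e, h, mul_zero])
        · rcases Finset.mem_insert.1 hl' with rfl | hl'
          · exact hj c d
          · exact hl l (fun h => hjD (h ▸ hl')) (hYc l hl') c d
      by_cases hall : ∀ c d, Commute Z (E j c d)
      · exact ⟨S, a, b, Z, hSD.trans (Finset.subset_insert _ _), hab, hmem, hSk, hZ, fun l hl =>
          (Finset.mem_insert.1 hl).elim (fun h => h ▸ hall) (hcomm l)⟩
      have hcE : ∀ l ∈ D, ∀ c d p q, Commute (E j p q : Module.End F (J m t → F)) (E l c d) :=
        fun l hl c d p q => Lop_comm_E (by simpa using fun h : l = j => hjD (h ▸ hl)) _ _ c d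
      by_cases hoff : ∃ p q, p ≠ q ∧ E j p q * Z * E j p q ≠ 0
      · obtain ⟨p, q, hpq, hne⟩ := hoff
        refine grow _ p q hpq hne ?_ ?_ fun l hl c d =>
          ((hcE l hl c d p q).mul_left (hcomm l hl c d)).mul_left (hcE l hl c d p q)
        · simp only [← mul_assoc, E_mul, if_true]
          simp only [mul_assoc, E_mul, if_true]
        · have := kSub_EkE hm hM hmem j hpq
          rwa [← mul_assoc (E j p q), ← (hL p q).eq, mul_assoc (Lop S a b), mul_assoc (Lop S a b)]
            at this
      push Not at hoff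
      obtain ⟨p, q, hpq, hne⟩ : ∃ p q, p ≠ q ∧ ¬ Commute Z (E j p q) := by
        by_contra! h
        refine hall fun c d => ?_
        rcases ne_or_eq c d with hcd | rfl
        · exact h c d hcd
        obtain ⟨e, he⟩ : ∃ e, e ≠ c := by
          have : Nontrivial (Fin m) := Fin.nontrivial_iff_two_le.2 (by omega)
          exact exists_ne c
        rw [show (E j c c : Module.End F (J m t → F)) = E j c e * E j e c by rw [E_mul, if_pos rfl]]
        exact (h c e he.symm).mul_right (h e c he)
      have hdiag : ∀ c d, c ≠ d → E j c c * Z * E j d d = 0 := by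
        intro c d hcd
        have e : E j c c * Z * E j d d = E j c d * (E j d c * Z * E j d c) * E j c d := by
          simp only [← mul_assoc, E_mul, if_true]
          simp only [mul_assoc, E_mul, if_true]
        rw [e, hoff d c hcd.symm, mul_zero, zero_mul]
      have hleft : ∀ c, E j c c * Z = E j c c * Z * E j c c := by
        intro c
        conv_lhs => rw [← mul_one (E j c c * Z), ← sum_E j, Finset.mul_sum]
        exact Finset.sum_eq_single c (fun d _ hd => hdiag c d (Ne.symm hd)) (by simp)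
      have hright : ∀ c, Z * E j c c = E j c c * Z * E j c c := by
        intro c
        conv_lhs => rw [← one_mul (Z * E j c c), ← sum_E j, Finset.sum_mul]
        rw [Finset.sum_eq_single c (fun d _ hd => by rw [← mul_assoc]; exact hdiag d c hd) (by simp),
          mul_assoc]
      set Y := E j p q * Z - Z * E j p q with hY
      refine grow Y p q hpq (fun h => hne ?_) ?_ ?_ fun l hl c d =>
        ((hcE l hl c d p q).mul_left (hcomm l hl c d)).sub_left
          ((hcomm l hl c d).mul_left (hcE l hl c d p q))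
      · exact (sub_eq_zero.1 h).symm
      · rw [hY, mul_sub, sub_mul]
        congr 1
        · rw [← mul_assoc (E j p p), E_mul, if_pos rfl]
          conv_lhs => rw [← E_mul_self_right j p q, mul_assoc, hleft q, ← mul_assoc, ← mul_assoc,
            E_mul_self_right j p q]
        · rw [mul_assoc (E j p p), mul_assoc Z, E_mul, if_pos rfl]
          conv_lhs => rw [← E_mul_self_left j p q, ← mul_assoc, hright p, mul_assoc,
            E_mul_self_left j p q]
          conv_rhs => rw [← E_mul_self_left j p q, ← mul_assoc Z, hright p]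
          rw [mul_assoc _ (E j p p) (E j p q), E_mul_self_left, ← mul_assoc, ← mul_assoc, E_mul_self_left]
      · have h1 := kSub_delta hM hmem j hpq
        rw [← mul_assoc (E j p q), ← (hL p q).eq, mul_assoc (Lop S a b), mul_assoc (Lop S a b) Z,
          mul_assoc (Lop S a b) (E j p q * Z), hoff p q hpq, mul_zero, sub_zero, ← mul_sub, ← hY]
          at h1
        exact h1
  obtain ⟨S, a, b, Z, -, hab, hmem, hSk, hZ, hcomm⟩ := key Finset.univ
  obtain ⟨c, hc⟩ := scalar_of_commute fun j => hcomm j (Finset.mem_univ j)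
  have hc0 : c ≠ 0 := fun h => hZ (LinearMap.ext fun x => by rw [hc, h]; simp)
  have hS : S.Nonempty := Finset.nonempty_iff_ne_empty.2 fun h => by
    obtain ⟨x, hx⟩ := hk' c
    exact hx (by rw [← hSk h]; exact hc x)
  refine ⟨S, a, b, hS, hab, ?_⟩
  convert (kSub M i).smul_mem c⁻¹ hmem using 1
  refine LinearMap.ext fun x => ?_
  rw [LinearMap.smul_apply, Module.End.mul_apply, hc, map_smul, inv_smul_smul₀ hc0]

end

end Cfsg.Agent.C7
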