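import Cfsg.Agent.Lib.C7.Swap

/-!
# Overgroups of the stabiliser mapping one root to another

If an element of an overgroup `M` carries one decomposable element to another, it lies in the wreath
group. Hence every `p`-subgroup of `M` through a decomposable element lies in the stabiliser, and a
root generating a `p`-group with a decomposable element is decomposable.
-/

set_option autoImplicit false
set_option linter.unusedSectionVars false

namespace Cfsg.Agent.C7

open Matrix Module Cfsg.Agent.Transvect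
open scoped MatrixGroups

variable {F : Type*} [Field F] [Fintype F] {m t s : ℕ}

/-- Overgroups with `Scal` of the stabiliser with `t + 1` factors lie in the wreath group. -/
def Maxl (F : Type*) [Field F] [Fintype F] (m t : ℕ) : Prop :=
  ∀ M : Subgroup (GL (J m (t + 1)) F), stab F m (t + 1) ≤ M →
    M ≤ Cfsg.Geo.specialLinear (J m (t + 1)) F → Scal M → M ≤ Wr F m (t + 1)

/-- The standing hypotheses on an overgroup. -/
structure Ovg (M : Subgroup (GL (J m (t + 1)) F)) : Prop where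
  hm : 3 ≤ m
  hM : stab F m (t + 1) ≤ M
  hSL : M ≤ Cfsg.Geo.specialLinear (J m (t + 1)) F
  hS : Scal M
  hIH : ∀ s, t = s + 1 → Maxl F m s

/-- `A ↦ A ⊗ 1`. -/
noncomputable def krHom (F : Type*) [Field F] (m : ℕ) {t : ℕ} (i : Fin (t + 1)) :
    GL (J m t) F →* GL (J m (t + 1)) F where
  toFun A := kr i A 1
  map_one' := kr_one i
  map_mul' A A' := by rw [kr_mul, one_mul]

lemma comap_scal (hm : 3 ≤ m) {M : Subgroup (GL (J m (s + 2)) F)} (hS : Scal M)
    (i : Fin (s + 2)) :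
    Scal (M.comap (krHom F m i) ⊓ Cfsg.Geo.specialLinear (J m (s + 1)) F) := by
  intro j k u α hu hα h hk
  have hmem : kr i (rt j k u α) 1 ∈ M := hk.1
  set W' := kr i (rt j k u α) (1 : GL (Fin m) F) with hW
  set l := i.succAbove j
  have hT : ∀ z q, app W' (T i z q) = T i z q + T i (T j (k (ct j α z)) u) q := fun z q => by
    rw [hW, app_kr, rt_apply h, map_one, LinearEquiv.coe_one, id_eq, map_add, LinearMap.add_apply]
  have hres : ∀ x, app W' x - x ∈ Li l u := by
    intro x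
    rw [← sum_T_single i x, map_sum, ← Finset.sum_sub_distrib]
    refine Submodule.sum_mem _ fun c _ => ?_
    rw [hT, add_sub_cancel_left]
    exact nested_mem i j _ u _
  obtain ⟨w, hw⟩ := LinearMap.surjective_of_ne_zero hα 1
  have hfix : ∀ x, ct l α x = 0 → app W' x = x := by
    intro x hx
    have hc : ∀ c, ct j α (ct i (LinearMap.proj c) x) = 0 := fun c => by
      have hL : (ct j α ∘ₗ ct i (LinearMap.proj c)) ∘ₗ (LinearMap.id - (T l).flip w ∘ₗ ct l α) = 0 :=
        lin_ext l fun z q => by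
          simp only [LinearMap.comp_apply, LinearMap.sub_apply, LinearMap.id_apply,
            LinearMap.flip_apply, ct_T, LinearMap.zero_apply]
          rw [show T l z q - T l (α q • z) w = T l z (q - α q • w) by
            rw [map_sub (T l z), map_smul (T l z), map_smul (T l), LinearMap.smul_apply]]
          exact ct_Li (by simp [hw]) (ct_mem_Li i j _ (T_mem_Li l z _))
      have := LinearMap.congr_fun hL x
      simpa only [LinearMap.comp_apply, LinearMap.sub_apply, LinearMap.id_apply,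
        LinearMap.flip_apply, hx, map_zero, LinearMap.zero_apply, sub_zero] using this
    conv_rhs => rw [← sum_T_single i x]
    conv_lhs => rw [← sum_T_single i x, map_sum]
    refine Finset.sum_congr rfl fun c _ => ?_
    rw [hT, show ct j α (fun g => x (ins i c g)) = 0 from hc c]
    simp
  obtain ⟨k', hk'⟩ := exists_rt hu hα h hres hfix
  obtain ⟨c, hc⟩ := hS l k' u α hu hα h (hk' ▸ hmem)
  refine ⟨c, fun x => ?_⟩
  have : Nonempty (Fin m) := ⟨⟨0, by omega⟩⟩
  obtain ⟨q, hq⟩ := exists_ne (0 : Fin m → F)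
  obtain ⟨z, hz⟩ := nested_eq i j x q
  have h1 := hT (T j x w) q
  rw [ct_T, hw, one_smul] at h1
  conv_lhs at h1 => rw [hk', hz, rt_T h, hw, one_smul, hc, map_smul, LinearMap.smul_apply, ← hz,
    ← hz]
  rw [add_right_inj, ← LinearMap.smul_apply, ← map_smul, ← LinearMap.smul_apply, ← map_smul] at h1
  exact (T_inj_left hu (T_inj_left hq h1)).symm

variable {M : Subgroup (GL (J m (t + 1)) F)}

/-- A left factor in `M` lies in the smaller stabiliser. -/
lemma Ovg.left_mem_stab {M : Subgroup (GL (J m (s + 2)) F)} (H : Ovg M) {i : Fin (s + 2)}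
    {a : GL (J m (s + 1)) F} (ha : a ∈ Cfsg.Geo.specialLinear (J m (s + 1)) F)
    (h : kr i a 1 ∈ M) : a ∈ stab F m (s + 1) := by
  refine ⟨H.hIH s rfl _ ?_ inf_le_right (comap_scal H.hm H.hS i)
    (Subgroup.mem_inf.2 ⟨h, ha⟩), ha⟩
  exact fun b hb => Subgroup.mem_inf.2 ⟨H.hM (kr_left_mem_stab i hb), hb.2⟩

/-- The decomposition of an element carrying a decomposable element to another. -/
lemma Ovg.exists_decomp (H : Ovg M) {g : GL (J m (t + 1)) F} (hg : g ∈ M) {i l : Fin (t + 1)}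
    {u₀ u' : Fin m → F} {α₀ α' : (Fin m → F) →ₗ[F] F} (hu₀ : u₀ ≠ 0) (hu' : u' ≠ 0)
    (hα₀ : α₀ ≠ 0) (hα' : α' ≠ 0) (h₀ : α₀ u₀ = 0) (h' : α' u' = 0)
    (e : g * rt i LinearMap.id u₀ α₀ * g⁻¹ = rt l LinearMap.id u' α') :
    ∃ p ∈ Wr F m (t + 1), ∃ (A : GL (J m t) F) (B : GL (Fin m) F)
      (k : (J m t → F) →ₗ[F] (J m t → F)),
      (∀ a q, app (p * kr i A B) (T i a q) = T l (app A a) (app B q)) ∧ app B u₀ = u' ∧
        α₀ ∘ₗ (app B⁻¹).toLinearMap = α' ∧ g = p * kr i A B * rt i k u₀ α₀ := by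
  have : Nonempty (Fin m) := ⟨⟨0, by have := H.hm; omega⟩⟩
  have hline : (Li i u₀).map (app g).toLinearMap = Li l u' := by
    rw [← res_rt h₀ hα₀, ← C4.res_conj, e, res_rt h' hα']
  have hline' : ∀ a, ∃ b, app g⁻¹ (T l a u') = T i b u₀ := fun a => by
    obtain ⟨z, ⟨b, hb⟩, hz⟩ : T l a u' ∈ (Li i u₀).map (app g).toLinearMap := hline ▸ T_mem_Li _ _ _
    exact ⟨b, by rw [← hz, LinearEquiv.coe_coe, app_inv_app]; exact hb.symm⟩
  have hker : ∀ x, ct i α₀ x = 0 ↔ ct l α' (app g x) = 0 := by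
    intro x
    have h1 : app (rt l LinearMap.id u' α') (app g x) = app g (app (rt i LinearMap.id u₀ α₀) x) := by
      rw [← e, map_mul, map_mul, LinearEquiv.mul_apply, LinearEquiv.mul_apply, app_inv_app]
    refine ⟨fun hx => ct_eq_of_fix h' hu' (by rw [h1, rt_fix h₀ _ hx]), fun hx => ?_⟩
    rw [rt_fix h' _ hx] at h1
    exact ct_eq_of_fix h₀ hu₀ ((app g).injective h1.symm)
  obtain ⟨γ₁, hγ₁⟩ := exists_dual hu'
  let A : (J m t → F) →ₗ[F] (J m t → F) := ct l γ₁ ∘ₗ (app g).toLinearMap ∘ₗ (T i).flip u₀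
  have hA : ∀ a, app g (T i a u₀) = T l (A a) u' := fun a => by
    obtain ⟨b, hb⟩ : app g (T i a u₀) ∈ Li l u' := hline ▸ ⟨_, T_mem_Li _ _ _, rfl⟩
    have h1 : A a = ct l γ₁ (T l b u') := congrArg (ct l γ₁) hb.symm
    rw [h1, ct_T, hγ₁, one_smul]
    exact hb.symm
  have rel : ∀ (β γ : (Fin m → F) →ₗ[F] F), β u₀ = 0 → γ u' = 0 →
      g * rt i LinearMap.id u₀ β * g⁻¹ = rt l LinearMap.id u' γ →
      ∀ a q, ct l γ (app g (T i a q)) = β q • A a := by
    intro β γ hβ hγ he a q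
    rw [mul_inv_eq_iff_eq_mul] at he
    have := congrArg (fun k => app k (T i a q)) he
    simp only [map_mul, LinearEquiv.mul_apply, rt_T hβ, map_add, map_smul, hA, rt_apply hγ,
      LinearMap.id_apply, add_right_inj] at this
    apply T_inj_left (i := l) hu'
    rw [map_smul, LinearMap.smul_apply]
    first | exact this | exact this.symm
  have hpre : ∀ γ : (Fin m → F) →ₗ[F] F, γ u' = 0 → ∃ β : (Fin m → F) →ₗ[F] F, β u₀ = 0 ∧
      g * rt i LinearMap.id u₀ β * g⁻¹ = rt l LinearMap.id u' γ := by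
    intro γ hγ
    have hz : g⁻¹ * rt l LinearMap.id u' γ * g ∈ M :=
      mul_mem (mul_mem (inv_mem hg) (H.hM (rt_one_mem_stab hγ))) hg
    obtain ⟨β, hβ, hb⟩ := eq_rt_of_res H.hm H.hM H.hS hz (i := i) hu₀
      (fun x => by
        obtain ⟨b, hb⟩ := hline' (ct l γ (app g x))
        rw [map_mul, map_mul, LinearEquiv.mul_apply, LinearEquiv.mul_apply, rt_apply hγ, map_add,
          app_inv_app, add_sub_cancel_left, LinearMap.id_apply, hb]
        exact T_mem_Li _ _ _)
      (fun a => by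
        rw [map_mul, map_mul, LinearEquiv.mul_apply, LinearEquiv.mul_apply, hA, rt_fix hγ _ (by
          rw [ct_T, hγ, zero_smul]), ← hA, app_inv_app])
    exact ⟨β, hβ, by rw [← hb]; group⟩
  obtain ⟨w₀, hw₀⟩ := LinearMap.surjective_of_ne_zero hα₀ 1
  have hαA : ∀ a q, ct l α' (app g (T i a q)) = α₀ q • A a := rel α₀ α' h₀ h' e
  have hhyp : ∀ u, α₀ u = 0 → ∃ v, ∀ a, app g (T i a u) = T l (A a) v := by
    intro u hu
    have hz : g * rt i LinearMap.id u α₀ * g⁻¹ ∈ M :=
      mul_mem (mul_mem hg (H.hM (rt_one_mem_stab hu))) (inv_mem hg)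
    obtain ⟨v, hv, he⟩ := eq_rt_of_fix H.hm H.hM H.hS hz (i := l) hα'
      (fun x hx => by
        have h1 : ct i α₀ (app g⁻¹ x) = 0 := (hker _).2 (by rwa [app_app_inv])
        rw [map_mul, map_mul, LinearEquiv.mul_apply, LinearEquiv.mul_apply, rt_fix hu _ h1,
          app_app_inv])
      (fun x => by
        rw [map_mul, map_mul, LinearEquiv.mul_apply, LinearEquiv.mul_apply, rt_apply hu, map_add,
          app_app_inv, add_sub_cancel_left]
        exact (hker _).1 (by rw [ct_T, hu, zero_smul]))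
    refine ⟨v, fun a => ?_⟩
    rw [mul_inv_eq_iff_eq_mul] at he
    have h1 := congrArg (fun k => app k (T i a w₀)) he
    simp only [map_mul, LinearEquiv.mul_apply, rt_T hu, hw₀, one_smul, map_add, rt_apply hv, hαA,
      LinearMap.id_apply, add_right_inj] at h1
    exact h1
  have hAi : Function.Injective A := fun a b he =>
    T_inj_left hu₀ ((app g).injective (by rw [hA, hA, he]))
  obtain ⟨a₀, ha₀⟩ := exists_ne (0 : J m t → F)
  have hAa₀ : A a₀ ≠ 0 := fun he => ha₀ (hAi (he.trans (map_zero A).symm))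
  obtain ⟨ψ, hψ⟩ := exists_dual hAa₀
  let B : (Fin m → F) →ₗ[F] (Fin m → F) := lc l ψ ∘ₗ (app g).toLinearMap ∘ₗ T i a₀
  have hBhyp : ∀ u, α₀ u = 0 → ∀ a, app g (T i a u) = T l (A a) (B u) := by
    intro u hu a
    obtain ⟨v, hv⟩ := hhyp u hu
    have : B u = v := by
      show lc l ψ (app g (T i a₀ u)) = v
      rw [hv, lc_T, hψ, one_smul]
    rw [hv, this]
  have hBα : ∀ β γ : (Fin m → F) →ₗ[F] F, β u₀ = 0 → γ u' = 0 →
      g * rt i LinearMap.id u₀ β * g⁻¹ = rt l LinearMap.id u' γ → ∀ q, γ (B q) = β q := by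
    intro β γ hβ hγ he q
    show γ (lc l ψ (app g (T i a₀ q))) = β q
    rw [lc_ct, rel β γ hβ hγ he, map_smul, hψ, smul_eq_mul, mul_one]
  have hBu : B u₀ = u' := by
    show lc l ψ (app g (T i a₀ u₀)) = u'
    rw [hA, lc_T, hψ, one_smul]
  have hBi : Function.Injective B := by
    rw [injective_iff_map_eq_zero]
    intro q hq
    have hq0 : α₀ q = 0 := by rw [← hBα α₀ α' h₀ h' e q, hq, map_zero]
    refine T_inj_right ha₀ (i := i) ((app g).injective ?_)
    rw [hBhyp q hq0, hq, map_zero, map_zero, map_zero]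
  obtain ⟨XA, hXA⟩ := exists_gl A hAi
  obtain ⟨XB, hXB⟩ := exists_gl B hBi
  obtain ⟨p, hp, hpT⟩ := exists_perm (F := F) (m := m) i l
  let D : (J m t → F) →ₗ[F] (J m (t + 1) → F) :=
    (app g).toLinearMap ∘ₗ (T i).flip w₀ - (T l).flip (B w₀) ∘ₗ A
  let k : (J m t → F) →ₗ[F] (J m t → F) := (app XA⁻¹).toLinearMap ∘ₗ ct l γ₁ ∘ₗ D
  have hD : ∀ a, D a = T l (app XA (k a)) u' := by
    intro a
    obtain ⟨b, hb⟩ : D a ∈ Li l u' := mem_Li_of_ct fun γ hγ => by
      obtain ⟨β, hβ, he⟩ := hpre γ hγ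
      show ct l γ (app g (T i a w₀) - T l (A a) (B w₀)) = 0
      rw [map_sub, rel β γ hβ hγ he, ct_T, hBα β γ hβ hγ he, sub_self]
    show D a = T l (app XA (app XA⁻¹ (ct l γ₁ (D a)))) u'
    rw [app_app_inv, ← hb]
    show T l b u' = T l (ct l γ₁ (T l b u')) u'
    rw [ct_T, hγ₁, one_smul]
  have hK : ∀ a q, app (p * kr i XA XB) (T i a q) = T l (app XA a) (app XB q) := fun a q => by
    rw [map_mul, LinearEquiv.mul_apply, app_kr, hpT]
  refine ⟨p, hp, XA, XB, k, hK, by rw [hXB, hBu], LinearMap.ext fun q => ?_, gl_ext_T i fun a q => ?_⟩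
  · have h1 := hBα α₀ α' h₀ h' e (app XB⁻¹ q)
    rw [← hXB, app_app_inv] at h1
    exact h1.symm
  · rw [map_mul, LinearEquiv.mul_apply, rt_T h₀, map_add, map_smul, hK, hK, hXB u₀, hBu, ← hD,
      hXA a, hXB q]
    have h1 := hBhyp (q - α₀ q • w₀) (by simp [hw₀]) a
    simp only [map_sub, map_smul] at h1
    show app g (T i a q) = T l (A a) (B q) + α₀ q • (app g (T i a w₀) - T l (A a) (B w₀))
    rw [smul_sub]
    linear_combination (norm := module) h1

/-- An element of `M` carrying a decomposable element to another is in the wreath group. -/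
theorem Ovg.mem_Wr_of_map (H : Ovg M) {g : GL (J m (t + 1)) F} (hg : g ∈ M)
    {r : GL (J m (t + 1)) F} (hr : IsDec r) (hr' : IsDec (g * r * g⁻¹)) :
    g ∈ Wr F m (t + 1) := by
  obtain ⟨i, u₀, α₀, hu₀, hα₀, h₀, rfl⟩ := hr
  obtain ⟨l, u', α', hu', hα', h', e⟩ := hr'
  obtain ⟨p, hp, A, B, k, hK, hBu, hBα, rfl⟩ := H.exists_decomp hg hu₀ hu' hα₀ hα' h₀ h' e
  cases t with
  | zero => exact mem_Wr_one _
  | succ s =>
    set K := p * kr i A B with hKdef
    set g := K * rt i k u₀ α₀ with hgdef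
    have hnorm : ∀ a ∈ stab F m (s + 1), A * a * A⁻¹ ∈ stab F m (s + 1) := by
      intro a ha
      set a' := A * a * A⁻¹
      have hsl : a' ∈ Cfsg.Geo.specialLinear (J m (s + 1)) F :=
        (MonoidHom.normal_ker _).conj_mem _ ha.2 A
      set k₁ := (app a⁻¹).toLinearMap ∘ₗ k ∘ₗ (app a).toLinearMap - k
      set k₂ := (app A).toLinearMap ∘ₗ k₁ ∘ₗ (app A⁻¹).toLinearMap
      have hE : kr l a' 1 * rt l k₂ u' α' ∈ M := by
        have h1 : rt i k u₀ α₀ * kr i a 1 * (rt i k u₀ α₀)⁻¹ = kr i a 1 * rt i k₁ u₀ α₀ := by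
          have hc : kr i a⁻¹ 1 * rt i k u₀ α₀ * kr i a 1 =
              rt i ((app a⁻¹).toLinearMap ∘ₗ k ∘ₗ (app a).toLinearMap) u₀ α₀ := by
            have hc := conj_rt (h := kr i a⁻¹ 1) (app_kr i a⁻¹ 1) h₀ k
            rw [kr_inv, inv_inv, inv_one, map_one] at hc
            exact hc
          rw [rt_inv h₀, show rt i k₁ u₀ α₀ = kr i a⁻¹ 1 * rt i k u₀ α₀ * kr i a 1 * rt i (-k) u₀ α₀ by
            rw [hc, rt_mul h₀, ← sub_eq_add_neg]]
          simp only [← mul_assoc, kr_mul, mul_inv_cancel, one_mul, kr_one]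
        have h2 : K * kr i a 1 * K⁻¹ = kr l a' 1 := by
          rw [mul_inv_eq_iff_eq_mul]
          refine gl_ext_T i fun x q => ?_
          simp only [map_mul, LinearEquiv.mul_apply, app_kr, hK, a', app_inv_app, map_one,
            LinearEquiv.coe_one, id_eq]
        have h3 := conj_rt hK h₀ k₁
        rw [hBu, hBα] at h3
        have h4 : g * kr i a 1 * g⁻¹ = kr l a' 1 * rt l k₂ u' α' := by
          rw [← h2, ← h3, hgdef]
          calc K * rt i k u₀ α₀ * kr i a 1 * (K * rt i k u₀ α₀)⁻¹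
              = K * (rt i k u₀ α₀ * kr i a 1 * (rt i k u₀ α₀)⁻¹) * K⁻¹ := by group
            _ = _ := by rw [h1]; group
        rw [← h4]
        exact mul_mem (mul_mem hg (H.hM (kr_left_mem_stab i ha))) (inv_mem hg)
      obtain ⟨z₁, hz₁⟩ := LinearMap.surjective_of_ne_zero hα' 1
      obtain ⟨β, hβ, hβu, hβz⟩ := exists_kill₂ H.hm u' z₁
      have h5 : rt l k₂ u' α' * rt l LinearMap.id z₁ β =
          rt l LinearMap.id z₁ β * rt l k₂ u' β * rt l k₂ u' α' := gl_ext_T l fun x q => by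
        simp only [map_mul, LinearEquiv.mul_apply, rt_T h', rt_T hβu, rt_T hβz, map_add, map_smul,
          hβu, hβz, h', hz₁, zero_smul, one_smul, smul_zero, add_zero, LinearMap.id_apply, smul_add]
        abel
      have h6 : kr l a' 1 * rt l LinearMap.id z₁ β * (kr l a' 1)⁻¹ = rt l LinearMap.id z₁ β := by
        rw [conj_rt_one (app_kr l a' 1) hβz, inv_one, map_one]
        rfl
      have h7 := conj_rt (h := kr l a' 1) (app_kr l a' 1) hβu k₂
      rw [map_one, inv_one, map_one] at h7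
      have hmem : rt l ((app a').toLinearMap ∘ₗ k₂ ∘ₗ (app a'⁻¹).toLinearMap) u' β ∈ M := by
        have hz := H.hM (rt_one_mem_stab (i := l) hβz)
        have := mul_mem (inv_mem hz) (mul_mem (mul_mem hE hz) (inv_mem hE))
        rw [show (rt l LinearMap.id z₁ β)⁻¹ * (kr l a' 1 * rt l k₂ u' α' * rt l LinearMap.id z₁ β *
            (kr l a' 1 * rt l k₂ u' α')⁻¹) =
            kr l a' 1 * rt l k₂ u' β * (kr l a' 1)⁻¹ by
          rw [mul_assoc (kr l a' 1), h5]
          conv_lhs => arg 1; rw [← h6]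
          group] at this
        rw [h7] at this
        exact this
      obtain ⟨c, hc⟩ := H.hS l _ u' β hu' hβ hβu hmem
      have hk₂ : ∀ x, k₂ x = c • x := fun x => by
        have := hc (app a' x)
        simp only [LinearMap.comp_apply, LinearEquiv.coe_coe, app_inv_app] at this
        rw [← map_smul] at this
        exact (app a').injective this
      rw [rt_smul_one h' hk₂] at hE
      refine H.left_mem_stab hsl (i := l) ?_
      have h8 := H.hM (rt_one_mem_stab (i := l) (show (c • α') u' = 0 by simp [h']))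
      simpa using mul_mem hE (inv_mem h8)
    have hnorm' : ∀ a ∈ stab F m (s + 1), A⁻¹ * a * A ∈ stab F m (s + 1) := by
      have : Finite (GL (J m (s + 1)) F) := Finite.of_injective Units.val Units.val_injective
      intro a ha
      let f : stab F m (s + 1) → stab F m (s + 1) := fun b => ⟨A * b * A⁻¹, hnorm b b.2⟩
      have hf : Function.Injective f := fun b c hbc => by
        have h' : A * b * A⁻¹ = A * c * A⁻¹ := congrArg Subtype.val hbc
        exact Subtype.ext (mul_left_cancel (mul_right_cancel h'))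
      obtain ⟨b, hb⟩ := (Finite.injective_iff_surjective.1 hf) ⟨a, ha⟩
      have hb' : A * b * A⁻¹ = a := congrArg Subtype.val hb
      have : A⁻¹ * a * A = b := by rw [← hb']; group
      rw [this]
      exact b.2
    have hA : A ∈ Wr F m (s + 1) := by
      refine mem_Wr_of_lines H.hm A fun j u hu => ?_
      obtain ⟨α, hα, hαu, -⟩ := exists_kill₂ H.hm u u
      have hd : IsDec (rt j LinearMap.id u α) := ⟨j, u, α, hu, hα, hαu, rfl⟩
      obtain ⟨l', v, β, hv, hβ, hβv, he⟩ := isDec_of_mem_Wr H.hm hd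
        (hnorm _ hd.mem_stab).1 (fun δ hδ _ => (hnorm' δ hδ).1)
      refine ⟨l', v, fun x => ?_⟩
      rw [← res_rt hβv hβ, ← he, C4.res_conj, res_rt hαu hα]
      exact ⟨_, T_mem_Li _ _ _, rfl⟩
    have hKW : K ∈ Wr F m (s + 2) := mul_mem hp (kr_mem i hA B)
    have hKsl : K ∈ Cfsg.Geo.specialLinear (J m (s + 2)) F := by
      have := mul_mem (H.hSL hg) (inv_mem (rt_mem_sl i k u₀ α₀))
      rwa [hgdef, mul_inv_cancel_right] at this
    have hrt : rt i k u₀ α₀ ∈ M := by
      have := mul_mem (inv_mem (H.hM ⟨hKW, hKsl⟩)) hg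
      rwa [hgdef, inv_mul_cancel_left] at this
    obtain ⟨c, hc⟩ := H.hS i k u₀ α₀ hu₀ hα₀ h₀ hrt
    rw [hgdef, rt_smul_one h₀ hc]
    exact mul_mem hKW (rt_one_mem_stab (show (c • α₀) u₀ = 0 by simp [h₀])).1

/-- A root in the wreath group is decomposable. -/
theorem Ovg.isDec_of_root (H : Ovg M) {y : GL (J m (t + 1)) F} (hy : IsRoot M y)
    (hyW : y ∈ Wr F m (t + 1)) : IsDec y := by
  obtain ⟨x, hx, r, hr, rfl⟩ := hy
  refine isDec_of_mem_Wr H.hm hr hyW fun δ hδ hc => ?_
  refine H.mem_Wr_of_map (mul_mem (mul_mem (inv_mem hx) (H.hM hδ)) hx) hr ?_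
  rw [show x⁻¹ * δ * x * r * (x⁻¹ * δ * x)⁻¹ = x⁻¹ * (δ * (x * r * x⁻¹)) * δ⁻¹ * x by group, hc,
    show x⁻¹ * (x * r * x⁻¹ * δ) * δ⁻¹ * x = r by group]
  exact hr

/-- An element of `M` mapping some decomposable element into the wreath group is in it. -/
theorem Ovg.mem_Wr_of_conj (H : Ovg M) {x r : GL (J m (t + 1)) F} (hx : x ∈ M) (hr : IsDec r)
    (h : x * r * x⁻¹ ∈ Wr F m (t + 1)) : x ∈ Wr F m (t + 1) :=
  H.mem_Wr_of_map hx hr (H.isDec_of_root ⟨x, hx, r, hr, rfl⟩ h)

/-- A `p`-subgroup of `M` through a decomposable element is in the stabiliser. -/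
theorem Ovg.pgroup_le_stab (H : Ovg M) {p : ℕ} [Fact p.Prime] {P : Subgroup (GL (J m (t + 1)) F)}
    (hP : IsPGroup p P) (hPM : P ≤ M) {r : GL (J m (t + 1)) F} (hr : IsDec r) (hrP : r ∈ P) :
    P ≤ stab F m (t + 1) := by
  have : Finite (GL (J m (t + 1)) F) := Finite.of_injective Units.val Units.val_injective
  have := IsPGroup.isNilpotent hP
  set D := (stab F m (t + 1)).subgroupOf P
  by_contra hne
  have hD : D < ⊤ := lt_top_iff_ne_top.2 fun e => hne fun x hx => by
    have : (⟨x, hx⟩ : P) ∈ D := e ▸ Subgroup.mem_top _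
    exact this
  obtain ⟨x, hxN, hxD⟩ := SetLike.exists_of_lt (normalizerCondition_of_isNilpotent D hD)
  have h1 := (Subgroup.mem_normalizer_iff.1 hxN ⟨r, hrP⟩).1 hr.mem_stab
  have h2 : (x : GL (J m (t + 1)) F) * r * (x : GL (J m (t + 1)) F)⁻¹ ∈ Wr F m (t + 1) :=
    (Subgroup.mem_inf.1 h1).1
  exact hxD ⟨H.mem_Wr_of_conj (hPM x.2) hr h2, H.hSL (hPM x.2)⟩

/-- A root and a decomposable element: some conjugate under the group they generate is
decomposable. -/
theorem Ovg.exists_conj (H : Ovg M) {r y : GL (J m (t + 1)) F} (hr : IsDec r) (hy : IsRoot M y) :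
    ∃ z ∈ Subgroup.closure {r, y}, IsDec (z * y * z⁻¹) := by
  obtain ⟨p, hp⟩ := CharP.exists F
  have := Fact.mk ((CharP.char_is_prime_or_zero F p).resolve_right (CharP.char_ne_zero_of_finite F p))
  have : Finite (GL (J m (t + 1)) F) := Finite.of_injective Units.val Units.val_injective
  set G := Subgroup.closure {r, y}
  have hrG : r ∈ G := Subgroup.subset_closure (by simp)
  have hyG : y ∈ G := Subgroup.subset_closure (by simp)
  have hGM : G ≤ M := (Subgroup.closure_le _).2 (by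
    simp [Set.insert_subset_iff, H.hM hr.mem_stab, hy.mem H.hM])
  have hpg : ∀ x ∈ G, IsRoot M x → IsPGroup p ((Subgroup.zpowers x).comap G.subtype) := by
    intro x hx hxr
    refine IsPGroup.comap_subtype ?_
    rintro ⟨z, k, rfl⟩
    refine ⟨1, Subtype.ext ?_⟩
    show (x ^ k) ^ p ^ 1 = 1
    rw [pow_one, ← zpow_natCast, ← _root_.zpow_mul, mul_comm, _root_.zpow_mul, zpow_natCast,
      hxr.pow_char, _root_.one_zpow]
  obtain ⟨Q1, hQ1⟩ := (hpg r hrG hr.isRoot).exists_le_sylow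
  obtain ⟨Q2, hQ2⟩ := (hpg y hyG hy).exists_le_sylow
  obtain ⟨z, hz⟩ := MulAction.exists_smul_eq G Q2 Q1
  have hle := H.pgroup_le_stab (P := (Q1 : Subgroup G).map G.subtype) (Q1.isPGroup'.map _)
    (fun x hx => by obtain ⟨x, -, rfl⟩ := hx; exact hGM x.2) hr
    ⟨⟨r, hrG⟩, hQ1 (Subgroup.mem_zpowers r), rfl⟩
  refine ⟨z, z.2, H.isDec_of_root (hy.conj (hGM z.2)) (hle ?_).1⟩
  refine ⟨z * ⟨y, hyG⟩ * z⁻¹, ?_, rfl⟩
  rw [← hz, Sylow.coe_subgroup_smul]
  exact ⟨⟨y, hyG⟩, hQ2 (Subgroup.mem_zpowers y), rfl⟩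

/-- A root whose product with a decomposable element in one order vanishes is decomposable. -/
theorem Ovg.isDec_of_prod_zero (H : Ovg M) {r y : GL (J m (t + 1)) F} (hr : IsDec r)
    (hy : IsRoot M y)
    (h : (∀ v ∈ C4.res y, app r v = v) ∨ ∀ v ∈ C4.res r, app y v = v) : IsDec y := by
  obtain ⟨p, hp⟩ := CharP.exists F
  have := Fact.mk ((CharP.char_is_prime_or_zero F p).resolve_right (CharP.char_ne_zero_of_finite F p))
  have hrr : ∀ v ∈ C4.res r, app r v = v := fun v hv => (hr.isRoot (M := M)).fix_res hv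
  have hyy : ∀ v ∈ C4.res y, app y v = v := fun v hv => hy.fix_res hv
  -- a flag `V ⊇ R ⊇ R₂ ⊇ 0` with trivial action on the quotients
  set R := C4.res r ⊔ C4.res y
  obtain ⟨R₂, hR₂, h1, h2, h3⟩ : ∃ R₂ : Submodule F (J m (t + 1) → F), R₂ ≤ R ∧
      (∀ v ∈ R, app r v - v ∈ R₂ ∧ app y v - v ∈ R₂) ∧
      (∀ v ∈ R₂, app r v = v) ∧ (∀ v ∈ R₂, app y v = v) := by
    rcases h with h | h
    · refine ⟨C4.res y, le_sup_right, fun v hv => ?_, h, hyy⟩
      obtain ⟨a, ha, b, hb, rfl⟩ := Submodule.mem_sup.1 hv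
      exact ⟨by rw [map_add, hrr a ha, h b hb, sub_self]; exact Submodule.zero_mem _, C4.mem_res _⟩
    · refine ⟨C4.res r, le_sup_left, fun v hv => ?_, hrr, h⟩
      obtain ⟨a, ha, b, hb, rfl⟩ := Submodule.mem_sup.1 hv
      exact ⟨C4.mem_res _, by rw [map_add, h a ha, hyy b hb, sub_self]; exact Submodule.zero_mem _⟩
  have hall : ∀ g ∈ Subgroup.closure {r, y}, (∀ v, app g v - v ∈ R) ∧
      (∀ v ∈ R, app g v - v ∈ R₂) ∧ ∀ v ∈ R₂, app g v = v := by
    intro g hg
    induction hg using Subgroup.closure_induction with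
    | mem g hg =>
      rcases hg with rfl | rfl
      · exact ⟨fun v => Submodule.mem_sup_left (C4.mem_res v), fun v hv => (h1 v hv).1, h2⟩
      · exact ⟨fun v => Submodule.mem_sup_right (C4.mem_res v), fun v hv => (h1 v hv).2, h3⟩
    | one => exact ⟨fun v => by simp, fun v _ => by simp, fun v _ => by simp⟩
    | mul a b _ _ ha hb =>
      refine ⟨fun v => ?_, fun v hv => ?_, fun v hv => ?_⟩
      · rw [map_mul, LinearEquiv.mul_apply, ← sub_add_sub_cancel _ (app b v) v]
        exact Submodule.add_mem _ (ha.1 _) (hb.1 v)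
      · rw [map_mul, LinearEquiv.mul_apply, ← sub_add_sub_cancel _ (app b v) v]
        refine Submodule.add_mem _ (ha.2.1 _ ?_) (hb.2.1 v hv)
        simpa using Submodule.add_mem _ (hb.1 v) hv
      · rw [map_mul, LinearEquiv.mul_apply, hb.2.2 v hv, ha.2.2 v hv]
    | inv a _ ha =>
      have h4 : ∀ v ∈ R₂, app a⁻¹ v = v := fun v hv => by
        conv_lhs => rw [← ha.2.2 v hv, app_inv_app]
      have h5 : ∀ v, app a⁻¹ v - v = -(app a (app a⁻¹ v) - app a⁻¹ v) := fun v => by
        rw [app_app_inv, neg_sub]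
      refine ⟨fun v => by rw [h5]; exact Submodule.neg_mem _ (ha.1 _), fun v hv => ?_, h4⟩
      rw [h5]
      refine Submodule.neg_mem _ (ha.2.1 _ ?_)
      have := Submodule.add_mem _ (Submodule.neg_mem _ (ha.1 (app a⁻¹ v))) hv
      simpa using this
  have hp' : IsPGroup p (Subgroup.closure {r, y} : Subgroup (GL (J m (t + 1)) F)) := by
    rintro ⟨g, hg⟩
    obtain ⟨g1, g2, g3⟩ := hall g hg
    refine ⟨2, Subtype.ext (Units.ext ?_)⟩
    show (g : GL (J m (t + 1)) F).val ^ p ^ 2 = 1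
    set N : Matrix (J m (t + 1)) (J m (t + 1)) F := (g : GL (J m (t + 1)) F).val - 1 with hN
    have hNv : ∀ v, N *ᵥ v = app g v - v := fun v => by
      rw [hN, Matrix.sub_mulVec, Matrix.one_mulVec]; rfl
    have hN3 : N * (N * N) = 0 := Matrix.ext_of_mulVec_single fun j => by
      rw [Matrix.zero_mulVec, ← Matrix.mulVec_mulVec, ← Matrix.mulVec_mulVec, hNv, hNv, hNv]
      exact sub_eq_zero.2 (g3 _ (g2 _ (g1 _)))
    have h4 : 4 ≤ p ^ 2 := by
      have := (Fact.out : p.Prime).two_le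
      nlinarith
    have : Nonempty (J m (t + 1)) := ⟨fun _ => ⟨0, by have := H.hm; omega⟩⟩
    have hg' : (g : GL (J m (t + 1)) F).val = 1 + N := by rw [hN]; abel
    rw [hg', add_pow_char_pow_of_commute p 2 (Commute.one_left N), one_pow,
      show p ^ 2 = 3 + (p ^ 2 - 3) by omega, pow_add,
      show N ^ 3 = N * (N * N) by rw [pow_succ', pow_two], hN3, zero_mul, add_zero]
  refine H.isDec_of_root hy (H.pgroup_le_stab hp' ?_ hr (Subgroup.subset_closure (by simp))
    (Subgroup.subset_closure (by simp))).1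
  exact (Subgroup.closure_le _).2 (by
    simp [Set.insert_subset_iff, H.hM hr.mem_stab, hy.mem H.hM])

end Cfsg.Agent.C7
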