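import Cfsg.Agent.Lib.C7.Key

/-!
# The tensor-wreath stabiliser is maximal

A root that is not decomposable meets some `Li i u` in a largest subspace; conjugating it to a
decomposable element by every `rt i id u α` pins its axis down until two axes give a contradiction.
-/

set_option autoImplicit false
set_option linter.unusedSectionVars false

namespace Cfsg.Agent.C7

open Matrix Module Cfsg.Agent.Transvect
open scoped MatrixGroups

variable {F : Type*} [Field F] [Fintype F] {m t s : ℕ}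

/-- Everything in `⟨r, y⟩` fixes the common fixed vectors and moves inside the residual spaces. -/
lemma clos_facts {r y z : GL (J m t) F} (hz : z ∈ Subgroup.closure {r, y}) :
    (∀ v, app r v = v → app y v = v → app z v = v) ∧
      ∀ v, app z v - v ∈ C4.res r ⊔ C4.res y := by
  induction hz using Subgroup.closure_induction with
  | mem z hz =>
    rcases hz with rfl | rfl
    · exact ⟨fun v h _ => h, fun v => Submodule.mem_sup_left (C4.mem_res v)⟩
    · exact ⟨fun v _ h => h, fun v => Submodule.mem_sup_right (C4.mem_res v)⟩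
  | one => exact ⟨fun v _ _ => by simp, fun v => by simp⟩
  | mul a b _ _ ha hb =>
    refine ⟨fun v h1 h2 => by rw [map_mul, LinearEquiv.mul_apply, hb.1 v h1 h2, ha.1 v h1 h2],
      fun v => ?_⟩
    rw [map_mul, LinearEquiv.mul_apply, ← sub_add_sub_cancel _ (app b v) v]
    exact Submodule.add_mem _ (ha.2 _) (hb.2 v)
  | inv a _ ha =>
    refine ⟨fun v h1 h2 => by conv_lhs => rw [← ha.1 v h1 h2, app_inv_app], fun v => ?_⟩
    have := Submodule.neg_mem _ (ha.2 (app a⁻¹ v))
    rwa [app_app_inv, neg_sub] at this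

lemma finrank_le_map_add {V W : Type*} [AddCommGroup V] [Module F V] [AddCommGroup W] [Module F W]
    [FiniteDimensional F V] (f : V →ₗ[F] W) (p : Submodule F V) :
    finrank F p ≤ finrank F (p.map f) + finrank F (p ⊓ LinearMap.ker f : Submodule F V) := by
  have h := LinearMap.finrank_range_add_finrank_ker (f.domRestrict p)
  rw [LinearMap.range_domRestrict] at h
  have h2 : finrank F (LinearMap.ker (f.domRestrict p)) ≤
      finrank F (p ⊓ LinearMap.ker f : Submodule F V) := by
    rw [← Submodule.finrank_map_subtype_eq p]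
    refine Submodule.finrank_mono ?_
    rintro _ ⟨x, hx, rfl⟩
    exact ⟨x.2, hx⟩
  omega

/-- A root of a quadratic gives an eigenvector. -/
lemma exists_eigen {V : Type*} [AddCommGroup V] [Module F V] [FiniteDimensional F V]
    (hodd : Odd (finrank F V)) (X : V →ₗ[F] V) (a b : F)
    (hq : ∀ v, a • X (X v) + b • X v = v) : ∃ (v : V) (μ : F), v ≠ 0 ∧ X v = μ • v := by
  by_contra! hne
  have : Nontrivial V := Module.nontrivial_of_finrank_pos hodd.pos
  by_cases ha : a = 0
  · obtain ⟨v, hv⟩ := exists_ne (0 : V)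
    have hb : b ≠ 0 := fun e => hv (by rw [← hq v, ha, e]; simp)
    exact hne v b⁻¹ hv (by
      conv_rhs => rw [← hq v, ha, zero_smul, zero_add, inv_smul_smul₀ hb])
  have hroot : ∀ p : F, a * p * p + b * p - 1 ≠ 0 := by
    intro p hp
    obtain ⟨x, hx⟩ := exists_ne (0 : V)
    by_cases hv : a • X x + (a * p + b) • x = 0
    · refine hne x (-(a⁻¹ * (a * p + b))) hx ?_
      have h1 : a • X x = -((a * p + b) • x) := eq_neg_of_add_eq_zero_left hv
      rw [neg_smul, ← smul_smul, ← smul_neg, ← h1, inv_smul_smul₀ ha]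
    · refine hne _ p hv ?_
      have h1 : a * p * p + b * p = 1 := sub_eq_zero.1 hp
      have h2 := hq x
      have h3 : (a * p * p + b * p) • x = x := by rw [h1, one_smul]
      rw [map_add, map_smul, map_smul]
      linear_combination (norm := module) h2 - h3
  classical
  have : ∀ k, ∃ W : Submodule F V, (∀ x ∈ W, X x ∈ W) ∧ Even (finrank F W) ∧
      (W = ⊤ ∨ 2 * k ≤ finrank F W) := by
    intro k
    induction k with
    | zero => exact ⟨⊥, fun x hx => by rw [Submodule.mem_bot] at hx ⊢; rw [hx, map_zero],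
        by simp, .inr (by simp)⟩
    | succ k ih =>
      obtain ⟨W, hW, heven, h | h⟩ := ih
      · exact ⟨W, hW, heven, .inl h⟩
      by_cases htop : W = ⊤
      · exact ⟨W, hW, heven, .inl htop⟩
      obtain ⟨x, hx⟩ : ∃ x, x ∉ W := by
        by_contra! hall
        exact htop (eq_top_iff.2 fun x _ => hall x)
      have hx' : X x ∉ W ⊔ F ∙ x := by
        intro hm
        obtain ⟨w, hw, _, hp, he⟩ := Submodule.mem_sup.1 hm
        obtain ⟨p, rfl⟩ := Submodule.mem_span_singleton.1 hp
        refine hroot p ?_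
        by_contra hne0
        apply hx
        have h2 := hq x
        rw [← he, map_add, map_smul, ← he] at h2
        have hmem : (a * p * p + b * p - 1) • x ∈ W := by
          have h3 : (a * p * p + b * p - 1) • x = -(a • X w + (a * p + b) • w) := by
            linear_combination (norm := module) h2
          rw [h3]
          exact W.neg_mem (W.add_mem (W.smul_mem _ (hW w hw)) (W.smul_mem _ hw))
        simpa [smul_smul, inv_mul_cancel₀ hne0] using W.smul_mem (a * p * p + b * p - 1)⁻¹ hmem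
      refine ⟨W ⊔ (F ∙ x) ⊔ (F ∙ X x), fun z hz => ?_, ?_⟩
      · obtain ⟨_, hwx, _, hq', rfl⟩ := Submodule.mem_sup.1 hz
        obtain ⟨w, hw, _, hp', rfl⟩ := Submodule.mem_sup.1 hwx
        obtain ⟨c, rfl⟩ := Submodule.mem_span_singleton.1 hp'
        obtain ⟨d, rfl⟩ := Submodule.mem_span_singleton.1 hq'
        have hXX : X (X x) = a⁻¹ • x - (a⁻¹ * b) • X x := by
          have h2 := congrArg (a⁻¹ • ·) (hq x)
          simp only [smul_add, inv_smul_smul₀ ha, smul_smul] at h2
          exact eq_sub_of_add_eq h2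
        rw [map_add, map_add, map_smul, map_smul, hXX]
        refine Submodule.add_mem _ (Submodule.add_mem _ (Submodule.mem_sup_left
          (Submodule.mem_sup_left (hW w hw))) (Submodule.smul_mem _ _ (Submodule.mem_sup_right
            (Submodule.mem_span_singleton_self _)))) (Submodule.smul_mem _ _ (Submodule.sub_mem _ ?_ ?_))
        · exact Submodule.smul_mem _ _ (Submodule.mem_sup_left (Submodule.mem_sup_right
            (Submodule.mem_span_singleton_self _)))
        · exact Submodule.smul_mem _ _ (Submodule.mem_sup_right (Submodule.mem_span_singleton_self _))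
      · have hfin : finrank F (W ⊔ (F ∙ x) ⊔ (F ∙ X x) : Submodule F V) = finrank F W + 2 := by
          rw [Submodule.finrank_sup_span_singleton hx', Submodule.finrank_sup_span_singleton hx]
        rw [hfin]
        exact ⟨by rw [Nat.even_add]; simp [heven], .inr (by omega)⟩
  obtain ⟨W, -, heven, h | h⟩ := this (finrank F V + 1)
  · rw [h, finrank_top] at heven
    exact (Nat.not_even_iff_odd.2 hodd) heven
  · have := Submodule.finrank_le W
    omega

/-- Two transvections with crossing axes do not generate a `p`-group. -/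
lemma not_pgroup_pair {i : Fin (t + 1)} {u v : Fin m → F} {α δ : (Fin m → F) →ₗ[F] F}
    (hαu : α u = 0) (hδv : δ v = 0) (hα : α v ≠ 0) (hδ : δ u ≠ 0) (hu : u ≠ 0) {p : ℕ}
    [Fact p.Prime] [CharP F p] {P : Subgroup (GL (J m (t + 1)) F)} (hP : IsPGroup p P)
    (h1 : rt i LinearMap.id u α ∈ P) (h2 : rt i LinearMap.id v δ ∈ P) : False := by
  obtain ⟨c, hc⟩ := Function.ne_iff.1 hu
  have : Nonempty (J m t) := ⟨fun _ => c⟩
  obtain ⟨a, ha⟩ := exists_ne (0 : J m t → F)
  have : Nonempty (J m (t + 1)) := ⟨fun _ => c⟩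
  set g := rt i LinearMap.id u α * rt i LinearMap.id v δ
  obtain ⟨k, hk⟩ := hP ⟨g, mul_mem h1 h2⟩
  have hk' : (g : Matrix (J m (t + 1)) (J m (t + 1)) F) ^ p ^ k = 1 := by
    have := congrArg Units.val (congrArg Subtype.val hk)
    simpa using this
  set N : Matrix (J m (t + 1)) (J m (t + 1)) F := (g : Matrix _ _ F) - 1 with hN
  have hNp : N ^ p ^ k = 0 := by
    have hg' : (g : Matrix (J m (t + 1)) (J m (t + 1)) F) = 1 + N := by rw [hN]; abel
    rw [hg', add_pow_char_pow_of_commute p k (Commute.one_left N), one_pow] at hk'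
    simpa using hk'
  have huv : v ∉ F ∙ u := fun hm => by
    obtain ⟨e, rfl⟩ := Submodule.mem_span_singleton.1 hm
    simp [hαu] at hα
  have hstep : ∀ P Q : F, N *ᵥ T i a (P • u + Q • v) =
      T i a ((Q * α v + P * δ u * α v) • u + (P * δ u) • v) := by
    intro P Q
    rw [hN, Matrix.sub_mulVec, Matrix.one_mulVec, ← app_apply, map_mul, LinearEquiv.mul_apply,
      rt_T hδv, map_add, map_smul, rt_T hαu, rt_T hαu]
    simp only [map_add, map_smul, smul_eq_mul, hαu, hδv, mul_zero, zero_add, add_zero,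
      LinearMap.id_apply]
    module
  have hpow : ∀ n, ∃ P Q : F, (P ≠ 0 ∨ Q ≠ 0) ∧ N ^ n *ᵥ T i a u = T i a (P • u + Q • v) := by
    intro n
    induction n with
    | zero => exact ⟨1, 0, .inl one_ne_zero, by simp⟩
    | succ n ih =>
      obtain ⟨P, Q, hPQ, e⟩ := ih
      refine ⟨Q * α v + P * δ u * α v, P * δ u, ?_, by
        rw [pow_succ', ← Matrix.mulVec_mulVec, e, hstep]⟩
      by_cases hP0 : P = 0
      · exact .inl (by simp [hP0] at hPQ ⊢; exact ⟨hPQ, hα⟩)
      · exact .inr (mul_ne_zero hP0 hδ)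
  obtain ⟨P, Q, hPQ, e⟩ := hpow (p ^ k)
  rw [hNp, Matrix.zero_mulVec] at e
  have h0 := (T_eq_zero e.symm).resolve_left ha
  by_cases hQ : Q = 0
  · rw [hQ, zero_smul, add_zero] at h0
    exact (hPQ.resolve_right (not_not_intro hQ)) ((smul_eq_zero.1 h0).resolve_right hu)
  · exact huv (Submodule.mem_span_singleton.2 ⟨-(Q⁻¹ * P), by
      rw [neg_smul, ← smul_smul, ← smul_neg, inv_smul_eq_iff₀ hQ, neg_eq_iff_add_eq_zero]
      exact h0⟩)

variable {M : Subgroup (GL (J m (t + 1)) F)}

/-- A conjugate in a `p`-group with the decomposable element. -/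
theorem Ovg.exists_conj_pair (H : Ovg M) (p : ℕ) [Fact p.Prime] [CharP F p]
    {r y : GL (J m (t + 1)) F} (hr : IsDec r) (hy : IsRoot M y) :
    ∃ z ∈ Subgroup.closure {r, y}, IsDec (z * y * z⁻¹) ∧
      ∃ P : Subgroup (GL (J m (t + 1)) F), IsPGroup p P ∧ r ∈ P ∧ z * y * z⁻¹ ∈ P := by
  have : Finite (GL (J m (t + 1)) F) := Finite.of_injective Units.val Units.val_injective
  set G := Subgroup.closure {r, y}
  have hrG : r ∈ G := Subgroup.subset_closure (by simp)
  have hyG : y ∈ G := Subgroup.subset_closure (by simp)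
  have hGM : G ≤ M := (Subgroup.closure_le _).2 (by
    simp [Set.insert_subset_iff, H.hM hr.mem_stab, hy.mem H.hM])
  have hpg : ∀ x ∈ G, IsRoot M x → IsPGroup p ((Subgroup.zpowers x).comap G.subtype) := by
    intro x hx hxr
    refine IsPGroup.comap_subtype ?_
    rintro ⟨z, k, rfl⟩
    refine ⟨1, Subtype.ext ?_⟩
    show (x ^ k) ^ p ^ 1 = 1
    rw [pow_one, ← zpow_natCast, ← _root_.zpow_mul, mul_comm, _root_.zpow_mul, zpow_natCast,
      hxr.pow_char, _root_.one_zpow]
  obtain ⟨Q1, hQ1⟩ := (hpg r hrG hr.isRoot).exists_le_sylow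
  obtain ⟨Q2, hQ2⟩ := (hpg y hyG hy).exists_le_sylow
  obtain ⟨z, hz⟩ := MulAction.exists_smul_eq G Q2 Q1
  have hmem : (z : GL (J m (t + 1)) F) * y * (z : GL (J m (t + 1)) F)⁻¹ ∈
      (Q1 : Subgroup G).map G.subtype := by
    refine ⟨z * ⟨y, hyG⟩ * z⁻¹, ?_, rfl⟩
    rw [← hz, Sylow.coe_subgroup_smul]
    exact ⟨⟨y, hyG⟩, hQ2 (Subgroup.mem_zpowers y), rfl⟩
  have hrQ : r ∈ (Q1 : Subgroup G).map G.subtype :=
    ⟨⟨r, hrG⟩, hQ1 (Subgroup.mem_zpowers r), rfl⟩
  have hle := H.pgroup_le_stab (P := (Q1 : Subgroup G).map G.subtype) (Q1.isPGroup'.map _)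
    (fun x hx => by obtain ⟨x, -, rfl⟩ := hx; exact hGM x.2) hr hrQ
  exact ⟨z, z.2, H.isDec_of_root (hy.conj (hGM z.2)) (hle hmem).1, _, Q1.isPGroup'.map _, hrQ, hmem⟩

/-- With `Scal`, all roots are decomposable. -/
theorem Ovg.isDec_root {M : Subgroup (GL (J m (s + 1 + 1)) F)} (H : Ovg M) {y : GL (J m (s + 1 + 1)) F}
    (hy : IsRoot M y) : IsDec y := by
  classical
  by_contra hnd
  have hm := H.hm
  obtain ⟨p, hp⟩ := CharP.exists F
  have := Fact.mk ((CharP.char_is_prime_or_zero F p).resolve_right (CharP.char_ne_zero_of_finite F p))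
  have : Nonempty (Fin m) := ⟨⟨0, by omega⟩⟩
  have hm0 : 0 < m ^ s := pow_pos (by omega) s
  have hn1 : 3 * m ^ s ≤ m ^ (s + 1) := by rw [pow_succ, mul_comm]; exact Nat.mul_le_mul_left _ hm
  have hyy : ∀ v ∈ C4.res y, app y v = v := fun v hv => hy.fix_res hv
  have hny : finrank F (C4.res y) = m ^ (s + 1) := hy.finrank_res
  -- the largest intersection with a line
  obtain ⟨⟨i, u⟩, hu, hmax⟩ := Finset.exists_max_image
    ((Finset.univ : Finset (Fin (s + 1 + 1) × (Fin m → F))).filter fun q => q.2 ≠ 0)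
    (fun q => finrank F (Li q.1 q.2 ⊓ C4.res y : Submodule F (J m (s + 1 + 1) → F)))
    (by obtain ⟨u, hu⟩ := exists_ne (0 : Fin m → F); exact ⟨(0, u), by simp [hu]⟩)
  simp only [Finset.mem_filter, Finset.mem_univ, true_and] at hu hmax
  set R := Li i u ⊔ C4.res y with hR
  have hdimR : finrank F R + finrank F (Li i u ⊓ C4.res y : Submodule F (J m (s + 1 + 1) → F)) =
      2 * m ^ (s + 1) := by
    rw [hR, Submodule.finrank_sup_add_finrank_inf_eq, finrank_Li i hu, hny, two_mul]
  -- each axis at `u` conjugates `y` back to the same position and axis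
  have main : ∀ α : (Fin m → F) →ₗ[F] F, α ≠ 0 → α u = 0 → ∃ z ∈ M, ∃ δ : (Fin m → F) →ₗ[F] F,
      δ u = 0 ∧ δ ≠ 0 ∧ z * y * z⁻¹ = rt i LinearMap.id u δ ∧ δ ∈ F ∙ α ∧
      (∀ v, app z v - v ∈ R) ∧ (∀ v, ct i α v = 0 → app y v = v → app z v = v) := by
    intro α hα hαu
    have hr : IsDec (rt i LinearMap.id u α) := ⟨i, u, α, hu, hα, hαu, rfl⟩
    obtain ⟨z, hz, ⟨l, v, δ, hv, hδ, hδv, he⟩, P, hP, hrP, hzP⟩ := H.exists_conj_pair p hr hy
    have hzM : z ∈ M := ((Subgroup.closure_le _).2 (by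
      simp [Set.insert_subset_iff, H.hM hr.mem_stab, hy.mem H.hM]) : _ ≤ M) hz
    obtain ⟨hfix, hmove⟩ := clos_facts hz
    rw [res_rt hαu hα] at hmove
    have hfix' : ∀ v, ct i α v = 0 → app y v = v → app z v = v := fun v h1 h2 =>
      hfix v (rt_fix hαu _ h1) h2
    have hzres : Li l v = (C4.res y).map (app z).toLinearMap := by
      rw [← res_rt hδv hδ, ← he, C4.res_conj]
    have hlR : Li l v ≤ R := by
      rw [hzres]
      rintro _ ⟨x, hx, rfl⟩
      simpa using Submodule.add_mem _ (hmove x) (Submodule.mem_sup_right hx : x ∈ R)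
    have hzR : ∀ x ∈ R, app z x ∈ R := fun x hx => by
      simpa using Submodule.add_mem _ (hmove x) hx
    by_cases hli : l = i
    swap
    · exfalso
      set T₀ := C4.res y ⊓ LinearMap.ker (ct i α) with hT
      have hTle : T₀ ≤ Li l v ⊓ C4.res y := by
        intro x hx
        refine ⟨?_, hx.1⟩
        rw [hzres]
        exact ⟨x, hx.1, hfix' x hx.2 (hyy x hx.1)⟩
      have hj := (Submodule.finrank_mono hTle).trans (hmax (l, v) hv)
      have hkerle : Li i u ≤ LinearMap.ker (ct i α) := fun x hx => ct_Li hαu hx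
      have hRker : R ⊓ LinearMap.ker (ct i α) = Li i u ⊔ T₀ := by
        rw [hR, hT, sup_inf_assoc_of_le _ hkerle]
      have h1 : finrank F (R ⊓ LinearMap.ker (ct i α) : Submodule F (J m (s + 1 + 1) → F)) +
          finrank F (Li i u ⊓ C4.res y : Submodule F (J m (s + 1 + 1) → F)) =
          m ^ (s + 1) + finrank F T₀ := by
        rw [hRker, ← finrank_Li i hu, show Li i u ⊓ C4.res y = Li i u ⊓ T₀ by
          rw [hT, ← inf_assoc, inf_eq_left.2 (inf_le_left.trans hkerle)]]
        exact Submodule.finrank_sup_add_finrank_inf_eq _ _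
      have h2 := finrank_le_map_add (ct i α) (Li i u ⊔ Li l v)
      rw [Submodule.map_sup, show (Li i u).map (ct i α) = ⊥ from le_bot_iff.1 (by
        rintro _ ⟨x, hx, rfl⟩; rw [ct_Li hαu hx]; exact Submodule.zero_mem _), bot_sup_eq] at h2
      have h3 : finrank F ((Li l v).map (ct i α)) ≤ m ^ s := finrank_map_ct_le hli α hv
      have h4 : finrank F ((Li i u ⊔ Li l v) ⊓ LinearMap.ker (ct i α) :
          Submodule F (J m (s + 1 + 1) → F)) ≤
          finrank F (R ⊓ LinearMap.ker (ct i α) : Submodule F (J m (s + 1 + 1) → F)) :=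
        Submodule.finrank_mono (inf_le_inf_right _ (sup_le le_sup_left hlR))
      have h5 := Submodule.finrank_sup_add_finrank_inf_eq (Li i u) (Li l v)
      rw [finrank_Li i hu, finrank_Li l hv] at h5
      have h6 : finrank F (Li i u ⊓ Li l v : Submodule F (J m (s + 1 + 1) → F)) ≤ m ^ s :=
        finrank_inf_Li_le hli hu hv
      omega
    subst hli
    -- now the same position
    by_cases hvu : v ∈ F ∙ u
    swap
    · exfalso
      have hinf : Li l u ⊓ Li l v = ⊥ := by
        rw [eq_bot_iff]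
        rintro x ⟨⟨a, rfl⟩, ⟨b, hb⟩⟩
        simp only [LinearMap.flip_apply] at hb
        rw [Submodule.mem_bot]
        by_cases hb0 : b = 0
        · simp [← hb, hb0]
        · exact absurd (mem_span_of_T_eq hb0 hb) hvu
      have hRe : Li l u ⊔ Li l v = R := by
        refine Submodule.eq_of_le_of_finrank_le (sup_le le_sup_left hlR) ?_
        have h5 := Submodule.finrank_sup_add_finrank_inf_eq (Li l u) (Li l v)
        rw [hinf, finrank_bot, finrank_Li l hu, finrank_Li l hv] at h5
        omega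
      by_cases hαv : α v = 0
      · refine hnd (H.isDec_of_prod_zero hr hy (.inl fun x hx => rt_fix hαu _ ?_))
        have : x ∈ Li l u ⊔ Li l v := hRe ▸ Submodule.mem_sup_right hx
        obtain ⟨a, ha, b, hb, rfl⟩ := Submodule.mem_sup.1 this
        rw [map_add, ct_Li hαu ha, ct_Li hαv hb, add_zero]
      · by_cases hδu : δ u = 0
        · refine hnd (H.isDec_of_prod_zero hr hy (.inr fun x hx => ?_))
          rw [res_rt hαu hα] at hx
          have hxR : app z x ∈ Li l u ⊔ Li l v := hRe.symm ▸ hzR x (Submodule.mem_sup_left hx)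
          obtain ⟨a, ha, b, hb, e⟩ := Submodule.mem_sup.1 hxR
          have h1 : app (z * y * z⁻¹) (app z x) = app z x := by
            rw [he, rt_fix hδv _ (by rw [← e, map_add, ct_Li hδu ha, ct_Li hδv hb, add_zero])]
          rw [map_mul, map_mul, LinearEquiv.mul_apply, LinearEquiv.mul_apply, app_inv_app] at h1
          exact (app z).injective h1
        · exact not_pgroup_pair hαu hδv hαv hδu hu hP hrP (he ▸ hzP)
    obtain ⟨c, rfl⟩ := Submodule.mem_span_singleton.1 hvu
    have hc : c ≠ 0 := fun e => hv (by rw [e, zero_smul])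
    have hδu : δ u = 0 := by simpa [hc] using hδv
    have hcd : (c • δ) u = 0 := by simp [hδu]
    have he' : z * y * z⁻¹ = rt l LinearMap.id u (c • δ) := by
      rw [he]
      refine gl_ext fun x => ?_
      rw [rt_apply hδv, rt_apply hcd, ct_smul, map_smul, map_smul, map_smul, LinearMap.smul_apply]
    have hcd0 : c • δ ≠ 0 := smul_ne_zero hc hδ
    refine ⟨z, hzM, c • δ, hcd, hcd0, he', ?_, hmove, hfix'⟩
    by_contra hind
    refine hnd (H.isDec_of_prod_zero hr hy (.inr ?_))
    rw [res_rt hαu hα]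
    set δ' := c • δ
    let Φ : (J m (s + 1 + 1) → F) →ₗ[F] (J m (s + 1) → F) × (J m (s + 1) → F) :=
      (ct l α).prod (ct l δ')
    obtain ⟨w₁, hw₁α, hw₁δ⟩ : ∃ w, α w = 1 ∧ δ' w = 0 := by
      by_contra! hall
      refine hind (Submodule.mem_span_singleton.2 ?_)
      obtain ⟨e₁, he₁⟩ := LinearMap.surjective_of_ne_zero hcd0 1
      have hall' : ∀ w, δ' w = 0 → α w = 0 := fun w hw => by
        by_contra hne
        exact hall ((α w)⁻¹ • w) (by simp [hne]) (by simp [hw])
      have hαe : ∀ x, α x = δ' x * α e₁ := fun x => by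
        have := hall' (x - δ' x • e₁) (by simp [he₁])
        rw [map_sub, map_smul, sub_eq_zero] at this
        exact this
      have hαe0 : α e₁ ≠ 0 := fun e => hα (LinearMap.ext fun x => by simp [hαe x, e])
      exact ⟨(α e₁)⁻¹, LinearMap.ext fun x => by
        rw [LinearMap.smul_apply, hαe x, smul_eq_mul]; field_simp⟩
    obtain ⟨w₂', hw₂'⟩ := LinearMap.surjective_of_ne_zero hcd0 1
    set w₂ := w₂' - α w₂' • w₁
    have hw₂α : α w₂ = 0 := by simp [w₂, hw₁α]
    have hw₂δ : δ' w₂ = 1 := by simp [w₂, hw₁δ, hw₂']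
    have hΦ : Function.Surjective Φ := fun q => ⟨T l q.1 w₁ + T l q.2 w₂, by
      simp [Φ, hw₁α, hw₁δ, hw₂α, hw₂δ]⟩
    have hker := LinearMap.finrank_range_add_finrank_ker Φ
    rw [LinearMap.range_eq_top.2 hΦ, finrank_top, Module.finrank_prod] at hker
    simp only [Module.finrank_fintype_fun_eq_card, Fintype.card_fun, Fintype.card_fin] at hker
    set A : (J m (s + 1 + 1) → F) →ₗ[F] (J m (s + 1 + 1) → F) := (app y).toLinearMap - LinearMap.id
    have hKA := LinearMap.finrank_range_add_finrank_ker A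
    rw [show LinearMap.range A = C4.res y from rfl, hny] at hKA
    simp only [Module.finrank_fintype_fun_eq_card, Fintype.card_fun, Fintype.card_fin] at hKA
    have hKα := LinearMap.finrank_range_add_finrank_ker (ct l α)
    have hKα' : finrank F (LinearMap.range (ct l α)) ≤ m ^ (s + 1) := by
      refine (Submodule.finrank_le _).trans ?_
      simp
    simp only [Module.finrank_fintype_fun_eq_card, Fintype.card_fun, Fintype.card_fin] at hKα
    have hsum := Submodule.finrank_sup_add_finrank_inf_eq (LinearMap.ker A) (LinearMap.ker (ct l α))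
    have hsup := Submodule.finrank_le (LinearMap.ker A ⊔ LinearMap.ker (ct l α))
    simp only [Module.finrank_fintype_fun_eq_card, Fintype.card_fun, Fintype.card_fin] at hsup
    have hle : LinearMap.ker A ⊓ LinearMap.ker (ct l α) ≤ LinearMap.ker Φ := by
      intro x hx
      have hyx : app y x = x := sub_eq_zero.1 hx.1
      have hzx : app z x = x := hfix' x hx.2 hyx
      have h1 : app (rt l LinearMap.id u δ') x = x := by
        rw [← he']
        conv_lhs => rw [← hzx]
        rw [map_mul, map_mul, LinearEquiv.mul_apply, LinearEquiv.mul_apply, app_inv_app, hyx, hzx]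
      rw [LinearMap.mem_ker]
      exact Prod.ext hx.2 (ct_eq_of_fix hcd hu h1)
    have heq := Submodule.eq_of_le_of_finrank_le hle (by omega)
    intro x hx
    have hmem : x ∈ LinearMap.ker Φ :=
      LinearMap.mem_ker.2 (Prod.ext (ct_Li hαu hx) (ct_Li hcd hx))
    rw [← heq] at hmem
    exact sub_eq_zero.1 hmem.1
  -- two independent axes
  obtain ⟨α, hα, hαu, -⟩ := exists_kill₂ hm u u
  obtain ⟨a₁, ha₁⟩ := LinearMap.surjective_of_ne_zero hα 1
  obtain ⟨β, hβ, hβu, hβa⟩ := exists_kill₂ hm u a₁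
  obtain ⟨a, hαa, hβa'⟩ : ∃ a, α a = 0 ∧ β a = 1 := by
    obtain ⟨b, hb⟩ := LinearMap.surjective_of_ne_zero hβ 1
    exact ⟨b - α b • a₁, by simp [ha₁], by simp [hb, hβa]⟩
  obtain ⟨z₁, hz₁M, δ₁, hδ₁u, hδ₁, e₁, hδ₁α, hmv₁, -⟩ := main α hα hαu
  obtain ⟨z₂, hz₂M, δ₂, hδ₂u, hδ₂, e₂, hδ₂β, hmv₂, -⟩ := main β hβ hβu
  set w := z₂ * z₁⁻¹
  have hwM : w ∈ M := mul_mem hz₂M (inv_mem hz₁M)
  have hwconj : w * rt i LinearMap.id u δ₁ * w⁻¹ = rt i LinearMap.id u δ₂ := by
    rw [← e₁, ← e₂]; simp only [w]; group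
  have hwW : w ∈ Wr F m (s + 1 + 1) :=
    H.mem_Wr_of_map hwM ⟨i, u, δ₁, hu, hδ₁, hδ₁u, rfl⟩ ⟨i, u, δ₂, hu, hδ₂, hδ₂u, hwconj⟩
  obtain ⟨l, X, B, hw⟩ := exists_form hwW i
  rw [conj_rt_one hw hδ₁u] at hwconj
  have hBu0 : app B u ≠ 0 := fun e => hu ((app B).map_eq_zero_iff.1 e)
  have h0' : (δ₁ ∘ₗ (app B⁻¹).toLinearMap) (app B u) = 0 := by simp [-app_apply, hδ₁u]
  have hα'' : δ₁ ∘ₗ (app B⁻¹).toLinearMap ≠ 0 := fun e => hδ₁ (LinearMap.ext fun v => by
    simpa [-app_apply] using LinearMap.congr_fun e (app B v))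
  have hres := congrArg C4.res hwconj
  rw [res_rt h0' hα'', res_rt hδ₂u hδ₂] at hres
  obtain ⟨rfl, hsp⟩ := of_Li_le (by omega) hBu0 hu hres.le
  obtain ⟨lam, hlam⟩ := Submodule.mem_span_singleton.1 hsp
  have hlam0 : lam ≠ 0 := fun e => hBu0 (by rw [← hlam, e, zero_smul])
  -- `B` carries `ker α` to `ker β` but moves `a` out of it
  have hBa : app B a ∉ Submodule.span F ({a, u} : Set (Fin m → F)) := by
    intro hm'
    obtain ⟨x, x', hxx⟩ := Submodule.mem_span_pair.1 hm'
    have hδ₁a : δ₁ a = 0 := by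
      obtain ⟨c, rfl⟩ := Submodule.mem_span_singleton.1 hδ₁α
      simp [hαa]
    have hδ₂Ba : δ₂ (app B a) = 0 := by
      obtain ⟨b, hb⟩ := exists_ne (0 : J m (s + 1) → F)
      have h3 := congrArg (fun k => app k (T l b (app B a))) hwconj
      simp only [rt_T h0', rt_T hδ₂u, LinearMap.comp_apply, LinearEquiv.coe_coe, app_inv_app,
        hδ₁a, zero_smul, add_zero, left_eq_add, smul_eq_zero, LinearMap.id_apply] at h3
      exact h3.resolve_right fun e => (T_eq_zero e).elim hb hu
    obtain ⟨c', rfl⟩ := Submodule.mem_span_singleton.1 hδ₂β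
    have hc' : c' ≠ 0 := fun e => hδ₂ (by rw [e, zero_smul])
    rw [← hxx] at hδ₂Ba
    simp [hc', hβu, hβa'] at hδ₂Ba
    rw [hδ₂Ba, zero_smul, zero_add] at hxx
    have : a = (lam⁻¹ * x') • u := (app B).injective (by
      rw [map_smul, ← hlam, smul_smul, ← hxx]
      congr 1
      field_simp)
    rw [this, map_smul, hβu, smul_zero] at hβa'
    exact zero_ne_one hβa'
  have hau : a ∉ F ∙ u := fun h => by
    obtain ⟨c, rfl⟩ := Submodule.mem_span_singleton.1 h
    simp [hβu] at hβa'
  have hwR : ∀ x, app w x - x ∈ R := fun x => by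
    simp only [w, map_mul, LinearEquiv.mul_apply]
    rw [← sub_add_sub_cancel _ (app z₁⁻¹ x) x]
    refine Submodule.add_mem _ (hmv₂ _) ?_
    have := Submodule.neg_mem _ (hmv₁ (app z₁⁻¹ x))
    rwa [app_app_inv, neg_sub] at this
  let ψ : (J m (s + 1) → F) →ₗ[F] (J m (s + 1 + 1) → F) :=
    ((app w).toLinearMap - LinearMap.id) ∘ₗ (T l).flip a
  have hψ : ∀ b, ψ b = T l (app X b) (app B a) - T l b a := fun b => by
    show app w (T l b a) - T l b a = _
    rw [hw]
  obtain ⟨εB, hεB, hεB'⟩ := exists_dual_eq_one hBa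
  have hεBu : εB u = 0 := hεB _ (Submodule.subset_span (by simp))
  have hεBa : εB a = 0 := hεB _ (Submodule.subset_span (by simp))
  have hεψ : ∀ b, ct l εB (ψ b) = app X b := fun b => by
    rw [hψ, map_sub, ct_T, ct_T, hεB', hεBa, one_smul, zero_smul, sub_zero]
  have hψi : Function.Injective ψ := fun b b' e => (app X).injective (by rw [← hεψ, ← hεψ, e])
  have hdisj : Li l u ⊓ LinearMap.range ψ = ⊥ := by
    rw [eq_bot_iff]
    rintro x ⟨hx, b, rfl⟩
    have h1 : app X b = 0 := by rw [← hεψ, ct_Li hεBu hx]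
    rw [Submodule.mem_bot, (app X).map_eq_zero_iff.1 h1, map_zero]
  have hRψ : Li l u ⊔ LinearMap.range ψ = R ∧ Li l u ⊓ C4.res y = ⊥ := by
    have hle : Li l u ⊔ LinearMap.range ψ ≤ R := sup_le le_sup_left (by
      rintro _ ⟨b, rfl⟩; exact hwR _)
    have h5 := Submodule.finrank_sup_add_finrank_inf_eq (Li l u) (LinearMap.range ψ)
    rw [hdisj, finrank_bot, finrank_Li l hu, LinearMap.finrank_range_of_inj hψi] at h5
    simp only [Module.finrank_fintype_fun_eq_card, Fintype.card_fun, Fintype.card_fin] at h5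
    have h6 := Submodule.finrank_mono hle
    exact ⟨Submodule.eq_of_le_of_finrank_le hle (by omega),
      Submodule.finrank_eq_zero.1 (by omega)⟩
  have hRdec : ∀ x ∈ R, ∃ p b, x = T l p u + ψ b := fun x hx => by
    rw [← hRψ.1] at hx
    obtain ⟨_, ⟨p, rfl⟩, _, ⟨b, rfl⟩, rfl⟩ := Submodule.mem_sup.1 hx
    exact ⟨p, b, rfl⟩
  -- an eigenvector of `X`
  obtain ⟨a₀, μ, ha₀, hμ⟩ : ∃ a₀ μ, a₀ ≠ 0 ∧ app X a₀ = μ • a₀ := by
    obtain ⟨ε₁, hε₁, hε₁'⟩ := exists_dual_eq_one
      (show a ∉ Submodule.span F ({u, app B a} : Set (Fin m → F)) from fun h => by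
        obtain ⟨x, x', hxx⟩ := Submodule.mem_span_pair.1 h
        by_cases hx' : x' = 0
        · exact hau (Submodule.mem_span_singleton.2 ⟨x, by rw [← hxx, hx', zero_smul, add_zero]⟩)
        · refine hBa (Submodule.mem_span_pair.2 ⟨x'⁻¹, -(x'⁻¹ * x), ?_⟩)
          rw [neg_smul, ← smul_smul, ← sub_eq_add_neg, ← smul_sub, inv_smul_eq_iff₀ hx']
          rw [sub_eq_iff_eq_add']
          exact hxx.symm)
    have hε₁u : ε₁ u = 0 := hε₁ _ (Submodule.subset_span (by simp))
    have hε₁B : ε₁ (app B a) = 0 := hε₁ _ (Submodule.subset_span (by simp))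
    by_cases hall : ∃ b, b ∉ Submodule.span F ({u, a, app B a} : Set (Fin m → F))
    · obtain ⟨b, hb⟩ := hall
      obtain ⟨ε, hε, hεb⟩ := exists_dual_eq_one hb
      obtain ⟨a₀, ha₀⟩ := exists_ne (0 : J m (s + 1) → F)
      obtain ⟨p', b', he'⟩ := hRdec _ (hwR (T l a₀ b))
      have h1 := congrArg (ct l ε) he'
      have hu' : ε u = 0 := hε u (Submodule.subset_span (by simp))
      have ha' : ε a = 0 := hε a (Submodule.subset_span (by simp))
      have hBa' : ε (app B a) = 0 := hε (app B a) (Submodule.subset_span (by simp))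
      rw [hw, hψ, map_sub, map_add, map_sub, ct_T, ct_T, ct_T, ct_T, ct_T, hεb, hu', ha', hBa',
        zero_smul, zero_smul, zero_smul, sub_zero, add_zero, one_smul, sub_eq_zero] at h1
      have hne : ε (app B b) ≠ 0 := fun e => ha₀ (by rw [← h1, e, zero_smul])
      exact ⟨a₀, (ε (app B b))⁻¹, ha₀, by rw [eq_inv_smul_iff₀ hne]; exact h1⟩
    · push Not at hall
      have hm3 : m = 3 := by
        have hle := finrank_span_finset_le_card (R := F) ({u, a, app B a} : Finset (Fin m → F))
        rw [Set.finrank, show Submodule.span F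
          (↑({u, a, app B a} : Finset (Fin m → F)) : Set (Fin m → F)) = ⊤ from
            eq_top_iff.2 fun x _ => by simpa using hall x, finrank_top,
          Module.finrank_fintype_fun_eq_card, Fintype.card_fin] at hle
        have := hle.trans Finset.card_le_three
        omega
      obtain ⟨v, μ, hv, hμ⟩ := exists_eigen
        (by simp [hm3, Module.finrank_fintype_fun_eq_card]; exact (by decide : Odd 3).pow)
        (app X).toLinearMap (ε₁ (app B (app B a))) (εB (app B (app B a))) fun b => by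
          obtain ⟨p', b', he'⟩ := hRdec _ (hwR (T l b (app B a)))
          rw [hw, hψ] at he'
          have h1 := congrArg (ct l ε₁) he'
          have h2 := congrArg (ct l εB) he'
          simp only [map_sub, map_add, ct_T, hεB', hεBa, hεBu, hε₁', hε₁u, hε₁B, zero_smul,
            one_smul, sub_zero, zero_add, zero_sub] at h1 h2
          have hb' : b' = -(ε₁ (app B (app B a)) • app X b) := by rw [h1, neg_neg]
          rw [hb', map_neg, map_smul, sub_eq_iff_eq_add] at h2
          simp only [LinearEquiv.coe_coe]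
          rw [h2]
          abel
      exact ⟨v, μ, hv, hμ⟩
  have hμ0 : μ ≠ 0 := fun e => ha₀ ((app X).map_eq_zero_iff.1 (by rw [hμ, e, zero_smul]))
  set c := μ • app B a - a
  have hc : c ∉ F ∙ u := fun h => hBa (by
    obtain ⟨k, hk⟩ := Submodule.mem_span_singleton.1 h
    rw [show app B a = μ⁻¹ • a + (μ⁻¹ * k) • u by
      rw [← smul_smul, ← smul_add, hk, add_sub_cancel, inv_smul_smul₀ hμ0]]
    exact Submodule.add_mem _ (Submodule.smul_mem _ _ (Submodule.subset_span (by simp)))
      (Submodule.smul_mem _ _ (Submodule.subset_span (by simp))))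
  have hmem : T l a₀ c ∈ R := by
    have h1 : T l a₀ c = ψ a₀ := by
      rw [hψ, hμ, map_sub, map_smul (T l a₀), map_smul (T l), LinearMap.smul_apply]
    rw [h1, ← hRψ.1]
    exact Submodule.mem_sup_right ⟨a₀, rfl⟩
  obtain ⟨_, ⟨b₀, rfl⟩, Y, hY, hsum⟩ := Submodule.mem_sup.1 hmem
  change T l b₀ u + Y = T l a₀ c at hsum
  obtain ⟨γ, hγ, hγu, hγc⟩ := exists_kill₂ hm u c
  have hγY : ct l γ Y = 0 := by
    have := congrArg (ct l γ) hsum
    simpa [hγu, hγc] using this
  have hY0 : Y ≠ 0 := fun e => hc (by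
    rw [e, add_zero] at hsum
    exact mem_span_of_T_eq ha₀ hsum.symm)
  obtain ⟨z, hzM, δ, hδu, hδ, ez, -, -, hfz⟩ := main γ hγ hγu
  refine hY0 ((Submodule.mem_bot F).1 (hRψ.2 ▸ Submodule.mem_inf.2 ⟨?_, hY⟩))
  rw [← res_rt hδu hδ, ← ez, C4.res_conj]
  exact ⟨Y, hY, hfz Y hγY (hyy Y hY)⟩

/-- Overgroups with `Scal` are in the wreath group. -/
theorem maxl (hm : 3 ≤ m) : ∀ t, Maxl F m t := by
  intro t
  induction t with
  | zero => exact fun M _ _ _ g _ => mem_Wr_one g
  | succ s ih =>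
    intro M hM hSL hS g hg
    have : Nonempty (Fin m) := ⟨⟨0, by omega⟩⟩
    have H : Ovg M := ⟨hm, hM, hSL, hS, fun s' h => by
      have e : s' = s := by omega
      subst e
      exact ih⟩
    obtain ⟨u, hu⟩ := exists_ne (0 : Fin m → F)
    obtain ⟨α, hα, hαu, -⟩ := exists_kill₂ hm u u
    have hr : IsDec (rt (0 : Fin (s + 2)) LinearMap.id u α) := ⟨0, u, α, hu, hα, hαu, rfl⟩
    exact H.mem_Wr_of_map hg hr (H.isDec_root (hr.isRoot.conj hg))

/-- The stabiliser itself satisfies `Scal`. -/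
theorem scal_stab (hm : 3 ≤ m) : Scal (stab F m (t + 1)) := by
  intro i k u α hu hα h hk
  have : Nonempty (Fin m) := ⟨⟨0, by omega⟩⟩
  obtain ⟨l, X, B, hf⟩ := exists_form hk.1 i
  have hBu0 : app B u ≠ 0 := fun e => hu ((app B).map_eq_zero_iff.1 e)
  have hu' : ∀ a, T i a u = T l (app X a) (app B u) := fun a => by
    rw [← hf, rt_T h, h, zero_smul, add_zero]
  obtain ⟨rfl, hsp⟩ := of_Li_le (by omega) hu hBu0 (show Li i u ≤ Li l (app B u) from by
    rintro _ ⟨a, rfl⟩; exact ⟨app X a, (hu' a).symm⟩)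
  obtain ⟨σ, hσ⟩ := Submodule.mem_span_singleton.1 hsp
  have hσ0 : σ ≠ 0 := fun e => hu (by rw [← hσ, e, zero_smul])
  have hX : ∀ a, app X a = σ • a := fun a => T_inj_left (i := i) hBu0 (by
    rw [← hu' a, map_smul, LinearMap.smul_apply, ← map_smul, hσ])
  obtain ⟨q, hq⟩ := LinearMap.surjective_of_ne_zero hα 1
  obtain ⟨γ, hγ⟩ := exists_dual hu
  refine ⟨σ * γ (app B q) - γ q, fun a => ?_⟩
  have h1 := congrArg (ct i γ) (hf a q)
  rw [rt_T h, hq, one_smul, map_add, ct_T, ct_T, ct_T, hγ, one_smul, hX, smul_smul,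
    ← eq_sub_iff_add_eq'] at h1
  rw [h1, sub_smul, mul_comm]

/-- The stabiliser is maximal in `SL`. -/
theorem isMaximalIn_stab (hm : 3 ≤ m) :
    Cfsg.Geo.IsMaximalIn (Cfsg.Geo.specialLinear (J m (s + 2)) F) (stab F m (s + 2)) := by
  refine isMaximalIn_of_forall inf_le_right ?_ fun M hM hSL g hg hgn => ?_
  · by_contra! hall
    obtain ⟨a, b, hab⟩ : ∃ a b : Fin m, a ≠ b :=
      ⟨⟨0, by omega⟩, ⟨1, by omega⟩, by simp [Fin.ext_iff]⟩
    have h0 : (LinearMap.proj b : (Fin m → F) →ₗ[F] F) (Pi.single a 1) = 0 := by simp [hab.symm]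
    have h1 : (LinearMap.proj b : (Fin m → F) →ₗ[F] F) ≠ 0 := fun e => by
      simpa using LinearMap.congr_fun e (Pi.single b 1)
    obtain ⟨c, hc⟩ := scal_stab hm (0 : Fin (s + 2)) (E (0 : Fin (s + 1)) a b) (Pi.single a 1)
      (LinearMap.proj b) (by simp) h1 h0 (hall _ (rt_mem_sl _ _ _ _))
    have h2 := congrFun (hc (Pi.single (fun _ => b) 1)) (Function.update (fun _ => b) 0 a)
    rw [E_apply] at h2
    have hne : Function.update (fun _ : Fin (s + 1) => b) 0 a ≠ fun _ => b := fun e =>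
      hab (by simpa using congrFun e 0)
    simp [hne] at h2
  · by_cases hS : Scal M
    · exact absurd ⟨maxl hm (s + 1) M hM hSL hS hg, hSL hg⟩ hgn
    · exact sl_le_of_not_scal hm hM hS

end Cfsg.Agent.C7
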