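import Cfsg.Agent.Lib.C7.FirstUnit

/-!
# A non-scalar root gives all elementary matrices

`Good M S` says that `M` has all `1 + c ⊗_{l ∈ S} E (a l) (b l)` with `a`, `b` differing on all of
`S`. Commutators join overlapping good sets and the stabiliser moves them around, so one good set
with two elements makes the whole index set good, hence all of `SL` lies in `M`.
-/

set_option autoImplicit false
set_option linter.unusedSectionVars false

namespace Cfsg.Agent.C7

open Matrix Module Cfsg.Agent.Transvect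
open scoped MatrixGroups

variable {F : Type*} [Field F] {m t : ℕ}

/-- All products of units on `S` differing everywhere give elements of `M`. -/
def Good (M : Subgroup (GL (J m t) F)) (S : Finset (Fin t)) : Prop :=
  ∀ a b : J m t, (∀ l ∈ S, a l ≠ b l) → ∀ c : F, Rl S a b c ∈ M

lemma Rl_congr {S : Finset (Fin t)} {a a' b b' : J m t} (ha : ∀ l ∈ S, a l = a' l)
    (hb : ∀ l ∈ S, b l = b' l) (c : F) : Rl S a b c = Rl S a' b' c := by
  rw [Rl, Rl, Lop_congr ha hb]

lemma Rl_comm {S S' : Finset (Fin t)} {a b a' b' : J m t} (h1 : ∃ l ∈ S, a l ≠ b l)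
    (h2 : ∃ l ∈ S', a' l ≠ b' l) (hxy : ∀ l ∈ S ∩ S', b l = a' l)
    (hyx : ∃ l ∈ S ∩ S', b' l ≠ a l) (c c' : F) :
    Rl S a b c * Rl S' a' b' c' * (Rl S a b c)⁻¹ * (Rl S' a' b' c')⁻¹ =
      Rl (S ∪ S') (pw S a a') (pw S' b' b) (c * c') := by
  obtain ⟨l₀, hl, hne⟩ := hyx
  obtain ⟨hlS, hlS'⟩ := Finset.mem_inter.1 hl
  have h3 : ∃ l ∈ S ∪ S', pw S a a' l ≠ pw S' b' b l :=
    ⟨l₀, Finset.mem_union_left _ hlS, by simpa [pw, hlS, hlS'] using hne.symm⟩
  have hP : (Lop S a b * Lop S' a' b' : Module.End F (J m t → F)) =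
      Lop (S ∪ S') (pw S a a') (pw S' b' b) := by
    rw [Lop_mul, if_pos hxy]
  have hQ : ∀ v : J m t → F, Lop S' a' b' (Lop S a b v) = 0 := fun v => by
    rw [← Module.End.mul_apply, Lop_mul,
      if_neg fun h => hne (h l₀ (Finset.mem_inter.2 ⟨hlS', hlS⟩))]
    rfl
  have hX : ∀ v : J m t → F, Lop S a b (Lop S a b v) = 0 := fun v => by
    rw [← Module.End.mul_apply, Lop_mul_self h1]; rfl
  have hY : ∀ v : J m t → F, Lop S' a' b' (Lop S' a' b' v) = 0 := fun v => by
    rw [← Module.End.mul_apply, Lop_mul_self h2]; rfl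
  rw [mul_inv_eq_iff_eq_mul, mul_inv_eq_iff_eq_mul]
  refine gl_ext fun v => ?_
  simp only [map_mul, LinearEquiv.mul_apply, Rl_apply h1, Rl_apply h2, Rl_apply h3, ← hP,
    Module.End.mul_apply, map_add, map_smul, hQ, hX, hY, map_zero, smul_zero, add_zero]
  module

lemma Lop_univ (f g : J m t) (x : J m t → F) :
    Lop Finset.univ f g x = x g • Pi.single f (1 : F) := by
  funext y
  rw [Lop_apply, Pi.smul_apply, Pi.single_apply, smul_eq_mul, mul_ite, mul_one, mul_zero]
  refine if_congr ⟨fun hy => funext fun l => hy l (Finset.mem_univ l), fun hy l _ => by rw [hy]⟩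
    ?_ rfl
  congr 1
  funext l
  simp [pw]

lemma Rl_univ {f g : J m t} (h : f ≠ g) (c : F) : Rl Finset.univ f g c = elem f g c := by
  obtain ⟨l, hl⟩ := Function.ne_iff.1 h
  exact gl_ext fun x => by
    rw [Rl_apply ⟨l, Finset.mem_univ l, hl⟩, elem_apply h, Lop_univ, smul_smul]

lemma exists_ne₂ (hm : 3 ≤ m) (a b : Fin m) : ∃ d, d ≠ a ∧ d ≠ b := by
  obtain ⟨d, hd⟩ : ∃ d, d ∉ ({a, b} : Finset (Fin m)) := by
    by_contra! h
    have := Finset.card_le_card (fun x _ => h x : (Finset.univ : Finset (Fin m)) ⊆ {a, b})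
    rw [Finset.card_univ, Fintype.card_fin] at this
    have := this.trans Finset.card_le_two
    omega
  exact ⟨d, by simpa using hd⟩

/-- `SL` lies in a group with all elementary matrices. -/
theorem sl_le_of_elem {ι : Type} [Fintype ι] [DecidableEq ι] (M : Subgroup (GL ι F))
    (hel : ∀ (i j : ι), i ≠ j → ∀ c : F, elem i j c ∈ M) :
    Cfsg.Geo.specialLinear ι F ≤ M := by
  intro g hg
  rcases subsingleton_or_nontrivial ι with h1 | h1
  · have : g = 1 := by
      apply Units.ext
      ext i j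
      have hd := mem_sl_iff.1 hg
      rw [Matrix.det_eq_elem_of_subsingleton _ i] at hd
      obtain rfl : j = i := Subsingleton.elim _ _
      simp [hd]
    rw [this]; exact one_mem _
  let g' : Matrix.SpecialLinearGroup ι F := ⟨_, mem_sl_iff.1 hg⟩
  suffices ∀ A : Matrix.SpecialLinearGroup ι F, Matrix.SpecialLinearGroup.toGL A ∈ M by
    convert this g' using 1
    exact Units.ext rfl
  intro A
  refine Matrix.SpecialLinearGroup.diagonal_transvection_induction'
    (fun A => Matrix.SpecialLinearGroup.toGL A ∈ M) A ?_ ?_ ?_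
  · intro i j hij c hc
    convert mul_mem (mul_mem (mul_mem (mul_mem (mul_mem (hel i j hij c) (hel j i hij.symm (-c⁻¹)))
      (hel i j hij c)) (hel i j hij (-1))) (hel j i hij.symm 1)) (hel i j hij (-1)) using 1
    refine gl_ext fun x => ?_
    rw [diag_eq_elem_prod hij hc]
    funext k
    simp [Matrix.SpecialLinearGroup.diag2n_coe, Matrix.mulVec_diagonal]
  · intro i j hij a
    convert hel i j hij a using 1
    exact Units.ext (elem_val hij a).symm
  · intro A B hA hB
    rw [map_mul]; exact mul_mem hA hB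

/-! ### Factor permutations -/

lemma exists_permGL (σ : Equiv.Perm (Fin t)) :
    ∃ g ∈ Wr F m t, ∀ (x : J m t → F) (f : J m t), app g x f = x (f ∘ σ) := by
  let P : Matrix (J m t) (J m t) F := Matrix.of fun x y => if y = x ∘ σ then 1 else 0
  let Q : Matrix (J m t) (J m t) F := Matrix.of fun x y => if y = x ∘ σ.symm then 1 else 0
  have hPQ : P * Q = 1 := by
    ext x z
    rw [Matrix.mul_apply, Finset.sum_eq_single (x ∘ σ)]
    · simp only [P, Q, Matrix.of_apply, if_true, one_mul, Matrix.one_apply]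
      exact if_congr ⟨fun h => by rw [h]; funext j; simp, fun h => by rw [← h]; funext j; simp⟩
        rfl rfl
    · intro y _ hy; simp [P, hy]
    · simp
  let r : GL (J m t) F := ⟨P, Q, hPQ, mul_eq_one_comm.1 hPQ⟩
  have hr : ∀ x y, (r : Matrix (J m t) (J m t) F) x y = if y = x ∘ σ then 1 else 0 := fun _ _ => rfl
  exact ⟨r, Subgroup.subset_closure (Or.inr ⟨σ, hr⟩), fun x f => by rw [app_perm hr]⟩

lemma conj_Rl {σ : Equiv.Perm (Fin t)} {g : GL (J m t) F}
    (hg : ∀ (x : J m t → F) (f : J m t), app g x f = x (f ∘ σ)) {S : Finset (Fin t)} {a b : J m t}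
    (h : ∀ l ∈ S.map σ.toEmbedding, a l ≠ b l) (hS : S.Nonempty) (c : F) :
    g * Rl S (a ∘ σ) (b ∘ σ) c * g⁻¹ = Rl (S.map σ.toEmbedding) a b c := by
  obtain ⟨l, hl⟩ := hS
  have hl' : σ l ∈ S.map σ.toEmbedding := by simpa using hl
  refine gl_ext fun x => funext fun f => ?_
  have hinv : ∀ f', app g⁻¹ x f' = x (f' ∘ σ.symm) := fun f' => by
    have := hg (app g⁻¹ x) (f' ∘ σ.symm)
    rw [app_app_inv, Function.comp_assoc, Equiv.symm_comp_self, Function.comp_id] at this
    exact this.symm
  rw [map_mul, map_mul, LinearEquiv.mul_apply, LinearEquiv.mul_apply, hg,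
    Rl_apply (S := S) (a := a ∘ σ) (b := b ∘ σ) ⟨l, hl, h (σ l) hl'⟩, Rl_apply ⟨σ l, hl', h (σ l) hl'⟩]
  simp only [Pi.add_apply, Pi.smul_apply, Lop_apply, hinv]
  congr 1
  · congr 1
    funext j
    simp
  · congr 1
    refine if_congr ?_ ?_ rfl
    · simp only [Finset.mem_map_equiv, Function.comp_apply]
      exact ⟨fun H l hl => by simpa using H _ hl, fun H l hl => H _ (by simpa using hl)⟩
    · congr 1
      funext j
      simp [pw, Finset.mem_map_equiv]

section

variable [Fintype F] {M : Subgroup (GL (J m t) F)}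

lemma mem_update (hm : 3 ≤ m) (hst : stab F m t ≤ M) {S : Finset (Fin t)} {l : Fin t} (hl : l ∈ S)
    {a b : J m t} (hab : ∀ j ∈ S, a j ≠ b j) (hM : ∀ c, Rl S a b c ∈ M) {p q : Fin m} (hpq : p ≠ q) :
    ∀ c, Rl S (Function.update a l p) (Function.update b l q) c ∈ M := by
  have R : ∀ {a b : J m t} {d : Fin m}, (∀ c, Rl S a b c ∈ M) → a l ≠ b l → d ≠ a l →
      ∀ c, Rl S a (Function.update b l d) c ∈ M := by
    intro a b d hM hne hd c
    by_cases hbd : b l = d
    · rw [← hbd, Function.update_eq_self]; exact hM c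
    have hy := hst (unip_E_mem (F := F) l hbd 1)
    have := mul_mem (mul_mem (mul_mem (hM c) hy) (inv_mem (hM c))) (inv_mem hy)
    rw [Rl_comm ⟨l, hl, hne⟩ ⟨l, Finset.mem_singleton_self l, hbd⟩
      (fun j hj => by rw [Finset.mem_singleton.1 (Finset.mem_inter.1 hj).2])
      ⟨l, by simp [hl], hd⟩, mul_one, show S ∪ {l} = S by simpa using hl] at this
    convert this using 1
    refine Rl_congr (fun j hj => by simp [pw, hj]) (fun j _ => ?_) c
    by_cases hjl : j = l
    · subst hjl; simp [pw]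
    · simp [pw, hjl]
  have L : ∀ {a b : J m t} {d : Fin m}, (∀ c, Rl S a b c ∈ M) → a l ≠ b l → d ≠ b l →
      ∀ c, Rl S (Function.update a l d) b c ∈ M := by
    intro a b d hM hne hd c
    by_cases had : d = a l
    · rw [had, Function.update_eq_self]; exact hM c
    have hx := hst (unip_E_mem (F := F) l had 1)
    have := mul_mem (mul_mem (mul_mem hx (hM c)) (inv_mem hx)) (inv_mem (hM c))
    rw [Rl_comm ⟨l, Finset.mem_singleton_self l, had⟩ ⟨l, hl, hne⟩
      (fun j hj => by rw [Finset.mem_singleton.1 (Finset.mem_inter.1 hj).1])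
      ⟨l, by simp [hl], hd.symm⟩, one_mul, show {l} ∪ S = S by simpa using hl] at this
    convert this using 1
    refine Rl_congr (fun j _ => ?_) (fun j hj => by simp [pw, hj]) c
    by_cases hjl : j = l
    · subst hjl; simp [pw]
    · simp [pw, hjl]
  obtain ⟨d, hda, hdp⟩ := exists_ne₂ hm (a l) p
  have h1 := R hM (hab l hl) hda
  have h2 := L h1 (by simpa using hda.symm) (d := p) (by simpa using hdp.symm)
  have h3 := R h2 (d := q) (by simpa using hdp.symm) (by simpa using hpq.symm)
  simpa using h3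

lemma good_of_one (hm : 3 ≤ m) (hst : stab F m t ≤ M) {S : Finset (Fin t)} {a b : J m t}
    (hab : ∀ j ∈ S, a j ≠ b j) (hM : ∀ c, Rl S a b c ∈ M) : Good M S := by
  classical
  intro a' b' hab' c
  have key : ∀ D, D ⊆ S → ∀ c, Rl S (pw D a' a) (pw D b' b) c ∈ M := by
    intro D
    induction D using Finset.induction_on with
    | empty =>
      intro _ c
      convert hM c using 1
      exact Rl_congr (fun j _ => by simp [pw]) (fun j _ => by simp [pw]) c
    | @insert j D hj ih =>
      intro hD c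
      have := mem_update hm hst (hD (Finset.mem_insert_self j D))
        (a := pw D a' a) (b := pw D b' b) (fun l hl => by
          unfold pw; split_ifs
          · exact hab' l hl
          · exact hab l hl)
        (ih fun l hl => hD (Finset.mem_insert_of_mem hl))
        (hab' j (hD (Finset.mem_insert_self j D))) c
      convert this using 1
      refine Rl_congr (fun l _ => ?_) (fun l _ => ?_) c <;>
        by_cases h : l = j <;> simp [pw, h]
  convert key S subset_rfl c using 1
  exact Rl_congr (fun j hj => by simp [pw, hj]) (fun j hj => by simp [pw, hj]) c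

lemma Good.union (hm : 3 ≤ m) {S S' : Finset (Fin t)} (h : Good M S) (h' : Good M S')
    {l₀ : Fin t} (hl : l₀ ∈ S) (hl' : l₀ ∈ S') : Good M (S ∪ S') := by
  intro a b hab c
  choose d hd1 hd2 using fun l => exists_ne₂ hm (a l) (b l)
  set b₁ := pw (S \ S') b d with hb₁
  set a₂ := pw (S ∩ S') d a with ha₂
  have h1 : ∀ l ∈ S, a l ≠ b₁ l := fun l hlS => by
    unfold b₁ pw; split_ifs
    · exact hab l (Finset.mem_union_left _ hlS)
    · exact (hd1 l).symm
  have h2 : ∀ l ∈ S', a₂ l ≠ b l := fun l hlS => by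
    unfold a₂ pw; split_ifs
    · exact hd2 l
    · exact hab l (Finset.mem_union_right _ hlS)
  have hx := h a b₁ h1 c
  have hy := h' a₂ b h2 1
  have := mul_mem (mul_mem (mul_mem hx hy) (inv_mem hx)) (inv_mem hy)
  rw [Rl_comm ⟨l₀, hl, h1 _ hl⟩ ⟨l₀, hl', h2 _ hl'⟩
    (fun l hl => by simp [b₁, a₂, pw, Finset.mem_inter.1 hl])
    ⟨l₀, by simp [hl, hl'], (hab l₀ (Finset.mem_union_left _ hl)).symm⟩, mul_one] at this
  convert this using 1
  refine Rl_congr (fun l hlU => ?_) (fun l hlU => ?_) c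
  · by_cases h : l ∈ S <;> simp [a₂, pw, h]
  · by_cases h : l ∈ S'
    · simp [pw, h]
    · simp [b₁, pw, h, (Finset.mem_union.1 hlU).resolve_right h]

lemma good_univ (hm : 3 ≤ m) (hst : stab F m t ≤ M) {S : Finset (Fin t)} (hS : 2 ≤ S.card)
    (h : Good M S) : Good M Finset.univ := by
  classical
  obtain ⟨T, hT, hmax⟩ := Finset.exists_max_image
    (Finset.univ.filter fun T : Finset (Fin t) => Good M T ∧ S.card ≤ T.card) Finset.card
    ⟨S, by simp [h]⟩
  rw [Finset.mem_filter] at hT
  obtain ⟨-, hgT, hcT⟩ := hT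
  suffices T = Finset.univ by rwa [← this]
  by_contra hne
  obtain ⟨o, ho⟩ : ∃ o, o ∉ T := by
    by_contra! hall
    exact hne (Finset.eq_univ_iff_forall.2 hall)
  obtain ⟨l, hl, p, hp, hlp⟩ := Finset.one_lt_card.1 (show 1 < T.card by omega)
  set σ : Equiv.Perm (Fin t) :=
    (Equiv.swap l o * Equiv.swap o p) * (Equiv.swap l o * Equiv.swap o p) with hσ
  have hlo : l ≠ o := fun e => ho (e ▸ hl)
  have hpo : p ≠ o := fun e => ho (e ▸ hp)
  have hσl : σ l = p := by
    simp [σ, Equiv.Perm.mul_apply, Equiv.swap_apply_def, hlo, hlo.symm, hpo, hpo.symm, hlp, hlp.symm]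
  have hσp : σ p = o := by
    simp [σ, Equiv.Perm.mul_apply, Equiv.swap_apply_def, hlo, hlo.symm, hpo, hpo.symm, hlp, hlp.symm]
  obtain ⟨g, hgW, hgd, hg⟩ : ∃ g ∈ Wr F m t, g ∈ Cfsg.Geo.specialLinear (J m t) F ∧
      ∀ (x : J m t → F) (f : J m t), app g x f = x (f ∘ σ) := by
    obtain ⟨g₁, hg₁, e₁⟩ := exists_permGL (F := F) (m := m) (Equiv.swap l o)
    obtain ⟨g₂, hg₂, e₂⟩ := exists_permGL (F := F) (m := m) (Equiv.swap o p)
    refine ⟨g₁ * g₂ * (g₁ * g₂), mul_mem (mul_mem hg₁ hg₂) (mul_mem hg₁ hg₂), ?_, fun x f => ?_⟩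
    · have sq : ∀ (g : GL (J m t) F) (a b : Fin t),
          (∀ (x : J m t → F) (f : J m t), app g x f = x (f ∘ Equiv.swap a b)) →
          (g : Matrix (J m t) (J m t) F).det * (g : Matrix (J m t) (J m t) F).det = 1 := by
        intro g a b e
        have : g * g = 1 := gl_ext fun x => funext fun f => by
          rw [map_mul, LinearEquiv.mul_apply, e, e, map_one, LinearEquiv.coe_one, id_eq]
          congr 1
          funext j
          simp
        rw [← Matrix.det_mul, ← Units.val_mul, this, Units.val_one, Matrix.det_one]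
      rw [mem_sl_iff, Units.val_mul, Units.val_mul, Matrix.det_mul, Matrix.det_mul,
        mul_mul_mul_comm, sq g₁ _ _ e₁, sq g₂ _ _ e₂, one_mul]
    · simp only [map_mul, LinearEquiv.mul_apply, e₁, e₂, hσ]
      rfl
  have hgood : Good M (T.map σ.toEmbedding) := by
    intro a b hab c
    rw [← conj_Rl hg hab ⟨l, hl⟩]
    refine mul_mem (mul_mem (hst ⟨hgW, hgd⟩) (hgT _ _ (fun j hj => hab _ ?_) c))
      (inv_mem (hst ⟨hgW, hgd⟩))
    simpa using hj
  have hpm : p ∈ T.map σ.toEmbedding := by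
    rw [Finset.mem_map_equiv, show σ.symm p = l by rw [Equiv.symm_apply_eq, hσl]]; exact hl
  have hom : o ∈ T.map σ.toEmbedding := by
    rw [Finset.mem_map_equiv, show σ.symm o = p by rw [Equiv.symm_apply_eq, hσp]]; exact hp
  have hlt : T.card < (T ∪ T.map σ.toEmbedding).card :=
    Finset.card_lt_card (Finset.ssubset_iff_of_subset Finset.subset_union_left |>.2
      ⟨o, Finset.mem_union_right _ hom, ho⟩)
  have := hmax (T ∪ T.map σ.toEmbedding)
    (Finset.mem_filter.2 ⟨Finset.mem_univ _, hgT.union hm hgood hp hpm, by omega⟩)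
  omega

end

/-- A non-scalar root generates, with the stabiliser, all of `SL`. -/
theorem sl_le_of_not_scal [Fintype F] (hm : 3 ≤ m) {M : Subgroup (GL (J m (t + 1)) F)}
    (hM : stab F m (t + 1) ≤ M) (hns : ¬ Scal M) :
    Cfsg.Geo.specialLinear (J m (t + 1)) F ≤ M := by
  classical
  obtain ⟨i, S, a, b, hS, hab, hk⟩ := exists_unit hm hM hns
  obtain ⟨p, q, hpq⟩ : ∃ p q : Fin m, p ≠ q :=
    ⟨⟨0, by omega⟩, ⟨1, by omega⟩, by simp [Fin.ext_iff]⟩
  set U : Finset (Fin (t + 1)) := insert i (S.map i.succAboveEmb) with hU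
  have hdiff : ∀ l ∈ U, ins i p a l ≠ ins i q b l := by
    intro l hl
    rcases Finset.mem_insert.1 hl with rfl | hl
    · simpa [ins] using hpq
    · obtain ⟨j, hj, rfl⟩ := Finset.mem_map.1 hl
      simpa [ins] using hab j hj
  have hmem : ∀ c, Rl U (ins i p a) (ins i q b) c ∈ M := by
    intro c
    have h0 : (LinearMap.proj q : (Fin m → F) →ₗ[F] F) (Pi.single p 1) = 0 := by simp [hpq.symm]
    have := (kSub M i).smul_mem c hk _ _ (show (Pi.single p 1 : Fin m → F) ≠ 0 by simp) h0
    convert this using 1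
    refine gl_ext fun x => funext fun f => ?_
    rw [Rl_apply ⟨i, Finset.mem_insert_self _ _, hdiff i (Finset.mem_insert_self _ _)⟩, rt_apply h0]
    simp only [Pi.add_apply, Pi.smul_apply, LinearMap.smul_apply, T_apply, Lop_apply, ct_apply,
      smul_eq_mul, LinearMap.proj_apply]
    congr 1
    by_cases hfp : f i = p
    · rw [hfp, Pi.single_eq_same, mul_one]
      congr 1
      refine if_congr ?_ ?_ rfl
      · simp [U, ins, hfp]
      · congr 1
        symm
        refine Fin.insertNth_eq_iff.2 ⟨by simp [pw, U, ins], ?_⟩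
        funext j
        simp [Fin.removeNth, pw, U, ins, i.succAbove_ne j]
    · rw [Pi.single_eq_of_ne hfp, mul_zero, if_neg fun h => hfp (by
        simpa [ins] using h i (Finset.mem_insert_self _ _)), mul_zero]
  have hU2 : 2 ≤ U.card := by
    rw [hU, Finset.card_insert_of_notMem (by simp [i.succAbove_ne]), Finset.card_map]
    have := hS.card_pos
    omega
  have hall := good_univ hm hM hU2 (good_of_one hm hM hdiff hmem)
  refine sl_le_of_elem M fun f g hfg c => ?_
  rw [← Rl_univ hfg]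
  choose d hd1 hd2 using fun l => exists_ne₂ hm (f l) (g l)
  obtain ⟨l, hl⟩ := Function.ne_iff.1 hfg
  have hx := hall f d (fun j _ => (hd1 j).symm) c
  have hy := hall d g (fun j _ => hd2 j) 1
  have := mul_mem (mul_mem (mul_mem hx hy) (inv_mem hx)) (inv_mem hy)
  rw [Rl_comm ⟨l, Finset.mem_univ l, (hd1 l).symm⟩ ⟨l, Finset.mem_univ l, hd2 l⟩ (by simp)
    ⟨l, by simp, hl.symm⟩, mul_one] at this
  convert this using 1
  rw [Finset.union_self]
  exact Rl_congr (fun j _ => by simp [pw]) (fun j _ => by simp [pw]) c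

end Cfsg.Agent.C7
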