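import Cfsg.Agent.Lib.C7.NonScal
import Cfsg.Agent.Lib.C4.Roots

/-!
# Roots and lines

`IsDec g` is `g = 1 ⊗ ⋯ ⊗ (transvection) ⊗ ⋯ ⊗ 1`, a root of `M` is an `M`-conjugate of one. An
element mapping every `Li i u` into some `Li l v` is in the wreath group.
-/

set_option autoImplicit false
set_option linter.unusedSectionVars false

namespace Cfsg.Agent.C7

open Matrix Module Cfsg.Agent.Transvect
open scoped MatrixGroups

variable {F : Type*} [Field F] [Fintype F] {m t s : ℕ}

/-- `g = 1 ⊗ (1 + u α)` in some position. -/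
def IsDec (g : GL (J m (t + 1)) F) : Prop :=
  ∃ (i : Fin (t + 1)) (u : Fin m → F) (α : (Fin m → F) →ₗ[F] F),
    u ≠ 0 ∧ α ≠ 0 ∧ α u = 0 ∧ g = rt i LinearMap.id u α

/-- An `M`-conjugate of a decomposable element. -/
def IsRoot (M : Subgroup (GL (J m (t + 1)) F)) (g : GL (J m (t + 1)) F) : Prop :=
  ∃ x ∈ M, ∃ r, IsDec r ∧ g = x * r * x⁻¹

variable {M : Subgroup (GL (J m (t + 1)) F)} {g r x : GL (J m (t + 1)) F}

lemma IsDec.mem_stab (h : IsDec g) : g ∈ stab F m (t + 1) := by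
  obtain ⟨i, u, α, -, -, h, rfl⟩ := h
  exact rt_one_mem_stab h

lemma IsRoot.mem (hM : stab F m (t + 1) ≤ M) (h : IsRoot M g) : g ∈ M := by
  obtain ⟨x, hx, r, hr, rfl⟩ := h
  exact mul_mem (mul_mem hx (hM hr.mem_stab)) (inv_mem hx)

lemma IsRoot.conj (h : IsRoot M g) (hx : x ∈ M) : IsRoot M (x * g * x⁻¹) := by
  obtain ⟨x', hx', r, hr, rfl⟩ := h
  exact ⟨x * x', mul_mem hx hx', r, hr, by group⟩

lemma IsDec.isRoot (h : IsDec g) : IsRoot M g := ⟨1, one_mem M, g, h, by group⟩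

lemma finrank_res_conj (x : GL (J m (t + 1)) F) (hr : IsDec r) :
    finrank F (C4.res (x * r * x⁻¹)) = m ^ t := by
  obtain ⟨i, u, α, hu, hα, h, rfl⟩ := hr
  rw [C4.res_conj, LinearEquiv.finrank_map_eq, res_rt h hα, finrank_Li i hu]

lemma fix_res_conj (x : GL (J m (t + 1)) F) (hr : IsDec r) {z : J m (t + 1) → F}
    (hz : z ∈ C4.res (x * r * x⁻¹)) : app (x * r * x⁻¹) z = z := by
  obtain ⟨i, u, α, hu, hα, h, rfl⟩ := hr
  rw [C4.res_conj, res_rt h hα] at hz
  obtain ⟨y, hy, rfl⟩ := hz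
  simp only [map_mul, LinearEquiv.mul_apply, LinearEquiv.coe_coe, app_inv_app,
    rt_fix h _ (ct_Li h hy)]

lemma pow_char_conj {p : ℕ} [Fact p.Prime] [CharP F p] (x : GL (J m (t + 1)) F) (hr : IsDec r) :
    (x * r * x⁻¹) ^ p = 1 := by
  obtain ⟨i, u, α, hu, hα, h, rfl⟩ := hr
  rw [conj_pow, rt, C4.unip_pow_char, mul_one, mul_inv_cancel]
  intro z
  show T i (ct i α (T i (ct i α z) u)) u = 0
  rw [ct_T, h, zero_smul, map_zero, LinearMap.zero_apply]

lemma IsRoot.finrank_res (h : IsRoot M g) : finrank F (C4.res g) = m ^ t := by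
  obtain ⟨x, -, r, hr, rfl⟩ := h
  exact finrank_res_conj x hr

lemma IsRoot.fix_res (h : IsRoot M g) {z : J m (t + 1) → F} (hz : z ∈ C4.res g) :
    app g z = z := by
  obtain ⟨x, -, r, hr, rfl⟩ := h
  exact fix_res_conj x hr hz

lemma IsRoot.pow_char {p : ℕ} [Fact p.Prime] [CharP F p] (h : IsRoot M g) : g ^ p = 1 := by
  obtain ⟨x, -, r, hr, rfl⟩ := h
  exact pow_char_conj x hr

/-! ### Recognising `rt` -/

lemma exists_rt {l : Fin (t + 1)} {u : Fin m → F} {α : (Fin m → F) →ₗ[F] F} (hu : u ≠ 0)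
    (hα : α ≠ 0) (h : α u = 0) {g : GL (J m (t + 1)) F} (hres : ∀ x, app g x - x ∈ Li l u)
    (hfix : ∀ x, ct l α x = 0 → app g x = x) : ∃ k, g = rt l k u α := by
  obtain ⟨γ, hγ⟩ := exists_dual hu
  obtain ⟨w, hw⟩ := LinearMap.surjective_of_ne_zero hα 1
  let k : (J m t → F) →ₗ[F] (J m t → F) :=
    ct l γ ∘ₗ ((app g).toLinearMap - LinearMap.id) ∘ₗ (T l).flip w
  refine ⟨k, gl_ext fun x => ?_⟩
  obtain ⟨b, hb⟩ := hres (T l (ct l α x) w)
  have h1 := hfix (x - T l (ct l α x) w) (by rw [map_sub, ct_T, hw, one_smul, sub_self])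
  have h2 : k (ct l α x) = b := by
    show ct l γ (app g (T l (ct l α x) w) - T l (ct l α x) w) = b
    rw [← hb]
    show ct l γ (T l b u) = b
    rw [ct_T, hγ, one_smul]
  rw [rt_apply h, h2, show T l b u = app g (T l (ct l α x) w) - T l (ct l α x) w from hb]
  rw [map_sub] at h1
  linear_combination (norm := module) h1

/-- An element of `M` acting as `1` on `Li i u` and modulo it is decomposable. -/
lemma eq_rt_of_res (hm : 3 ≤ m) (hM : stab F m (t + 1) ≤ M) (hS : Scal M) (hg : g ∈ M)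
    {i : Fin (t + 1)} {u : Fin m → F} (hu : u ≠ 0) (hres : ∀ x, app g x - x ∈ Li i u)
    (hfix : ∀ a, app g (T i a u) = T i a u) :
    ∃ γ : (Fin m → F) →ₗ[F] F, γ u = 0 ∧ g = rt i LinearMap.id u γ := by
  obtain ⟨α, hα⟩ := exists_dual hu
  let K : (Fin m → F) → (J m t → F) →ₗ[F] (J m t → F) := fun z =>
    ct i α ∘ₗ ((app g).toLinearMap - LinearMap.id) ∘ₗ (T i).flip z
  have hK : ∀ a z, app g (T i a z) = T i a z + T i (K z a) u := fun a z => by
    obtain ⟨b, hb⟩ := hres (T i a z)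
    have h1 : K z a = ct i α (T i b u) := congrArg (ct i α) hb.symm
    rw [h1, ct_T, hα, one_smul, ← sub_eq_iff_eq_add']
    exact hb.symm
  have hKu : K u = 0 := LinearMap.ext fun a => by
    show ct i α (app g (T i a u) - T i a u) = 0
    rw [hfix, sub_self, map_zero]
  have hscal : ∀ z, ∃ c : F, ∀ a, K z a = c • a := by
    intro z
    obtain ⟨β, hβ0, hβu, hβz⟩ := exists_kill₂ hm u z
    have ht := hM (rt_one_mem_stab (i := i) (u := z) hβz)
    have hmem := mul_mem (mul_mem (mul_mem ht hg) (inv_mem ht)) (inv_mem hg)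
    have e : rt i LinearMap.id z β * g * (rt i LinearMap.id z β)⁻¹ * g⁻¹ = rt i (-K z) u β := by
      rw [mul_inv_eq_iff_eq_mul, mul_inv_eq_iff_eq_mul]
      refine gl_ext_T i fun a y => ?_
      simp only [map_mul, LinearEquiv.mul_apply, hK, hKu, LinearMap.zero_apply, map_zero, map_add,
        rt_T hβu, rt_T hβz, hβu, hβz, LinearMap.id_coe, id_eq, map_smul, LinearMap.smul_apply,
        LinearMap.neg_apply, map_neg, zero_smul, smul_zero, add_zero]
      module
    obtain ⟨c, hc⟩ := hS i (-K z) u β hu hβ0 hβu (e ▸ hmem)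
    exact ⟨-c, fun a => by
      have := hc a
      rw [LinearMap.neg_apply, neg_eq_iff_eq_neg] at this
      rw [this, neg_smul]⟩
  set f₀ : J m t := fun _ => ⟨0, by omega⟩
  let γ : (Fin m → F) →ₗ[F] F := LinearMap.proj f₀ ∘ₗ ct i α ∘ₗ
    ((app g).toLinearMap - LinearMap.id) ∘ₗ T i (Pi.single f₀ 1)
  have hγ : ∀ z a, K z a = γ z • a := by
    intro z a
    obtain ⟨c, hc⟩ := hscal z
    have h1 : γ z = c := by
      have h2 := congrFun (hc (Pi.single f₀ 1)) f₀
      simp only [Pi.smul_apply, Pi.single_eq_same, smul_eq_mul, mul_one] at h2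
      exact h2
    rw [h1, hc]
  have hγu : γ u = 0 := by
    show ct i α (app g (T i (Pi.single f₀ 1) u) - T i (Pi.single f₀ 1) u) f₀ = 0
    rw [hfix, sub_self, map_zero]; rfl
  refine ⟨γ, hγu, gl_ext_T i fun a z => ?_⟩
  rw [hK, hγ, rt_T hγu]
  simp

/-- An element of `M` fixing `ker ct i α` pointwise, with residual space inside it, is
decomposable. -/
lemma eq_rt_of_fix (hm : 3 ≤ m) (hM : stab F m (t + 1) ≤ M) (hS : Scal M) (hg : g ∈ M)
    {i : Fin (t + 1)} {α : (Fin m → F) →ₗ[F] F} (hα : α ≠ 0)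
    (hfix : ∀ x, ct i α x = 0 → app g x = x) (hres : ∀ x, ct i α (app g x - x) = 0) :
    ∃ v, α v = 0 ∧ g = rt i LinearMap.id v α := by
  obtain ⟨v₀, hv₀⟩ := LinearMap.surjective_of_ne_zero hα 1
  let L : (J m t → F) →ₗ[F] (J m (t + 1) → F) :=
    ((app g).toLinearMap - LinearMap.id) ∘ₗ (T i).flip v₀
  have hL0 : ∀ a, ct i α (L a) = 0 := fun a => hres _
  have hg' : ∀ a y, app g (T i a y) = T i a y + α y • L a := fun a y => by
    have h1 := hfix (T i a (y - α y • v₀))
      (by rw [ct_T, map_sub, map_smul, hv₀, smul_eq_mul, mul_one, sub_self, zero_smul])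
    rw [map_sub, map_smul, map_sub, map_smul] at h1
    show _ = _ + α y • (app g (T i a v₀) - T i a v₀)
    linear_combination (norm := module) h1
  have hscal : ∀ β : (Fin m → F) →ₗ[F] F, ∃ c : F, ∀ a, ct i β (L a) = c • a := by
    intro β
    obtain ⟨z, hz0, hαz, hβz⟩ := C4.TData.exists_ker_pair hm α β
    have ht := hM (rt_one_mem_stab (i := i) (u := z) hβz)
    have hmem := mul_mem (mul_mem (mul_mem ht hg) (inv_mem ht)) (inv_mem hg)
    have hgL : ∀ a, app g (L a) = L a := fun a => hfix _ (hL0 a)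
    clear_value L
    have e : rt i LinearMap.id z β * g * (rt i LinearMap.id z β)⁻¹ * g⁻¹ =
        rt i (ct i β ∘ₗ L) z α := by
      rw [mul_inv_eq_iff_eq_mul, mul_inv_eq_iff_eq_mul]
      refine gl_ext_T i fun a y => ?_
      simp only [map_mul, LinearEquiv.mul_apply, hg', map_add, rt_apply hαz, rt_apply hβz,
        ct_T, hαz, hβz, hgL, hL0, LinearMap.id_coe, id_eq, map_smul, LinearMap.smul_apply,
        LinearMap.comp_apply, zero_smul, smul_zero, map_zero, LinearMap.zero_apply, add_zero]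
      simp only [LinearMap.add_apply, LinearMap.smul_apply]
      module
    exact hS i _ z α hz0 hα hαz (e ▸ hmem)
  set f₀ : J m t := fun _ => ⟨0, by omega⟩
  set v : Fin m → F := fun c => L (Pi.single f₀ 1) (ins i c f₀)
  have hβv : ∀ β a, ct i β (L a) = β v • a := by
    intro β a
    obtain ⟨c, hc⟩ := hscal β
    have h1 : β v = c := by
      have h2 := congrFun (hc (Pi.single f₀ 1)) f₀
      simp only [Pi.smul_apply, Pi.single_eq_same, smul_eq_mul, mul_one] at h2
      exact h2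
    rw [h1, hc]
  have hLv : ∀ a, L a = T i a v := fun a => by
    rw [← sum_T_single i (L a), ← sum_T_single i (T i a v)]
    refine Finset.sum_congr rfl fun c _ => LinearMap.congr_fun (congrArg (T i) (funext fun g => ?_)) _
    have h1 := congrFun (hβv (LinearMap.proj c) a) g
    rw [T_ins]
    simpa [ct_apply, mul_comm] using h1
  have hαv : α v = 0 := by
    have := congrFun (hL0 (Pi.single f₀ 1)) f₀
    rw [hLv, ct_T] at this
    simpa using this
  refine ⟨v, hαv, gl_ext_T i fun a y => ?_⟩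
  rw [hg', hLv, rt_T hαv]
  simp

/-! ### Lines -/

lemma mem_Wr_one (g : GL (J m 1) F) : g ∈ Wr F m 1 := by
  refine Subgroup.subset_closure (Or.inl ⟨fun _ => Cfsg.Geo.glReindex
    (Equiv.funUnique (Fin 1) (Fin m)) g, fun f h => ?_⟩)
  rw [Fin.prod_univ_one]
  have e : ∀ f : J m 1, (Equiv.funUnique (Fin 1) (Fin m)).symm (f 0) = f := fun f =>
    (Equiv.funUnique (Fin 1) (Fin m)).symm_apply_apply f
  show _ = (g : Matrix (J m 1) (J m 1) F) _ _
  rw [e, e]

/-- An element mapping lines to lines is in the wreath group. -/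
theorem mem_Wr_of_lines (hm : 3 ≤ m) : ∀ {t : ℕ} (g : GL (J m (t + 1)) F),
    (∀ (i : Fin (t + 1)) (u : Fin m → F), u ≠ 0 →
      ∃ (l : Fin (t + 1)) (v : Fin m → F), ∀ a, app g (T i a u) ∈ Li l v) →
    g ∈ Wr F m (t + 1) := by
  intro t
  induction t with
  | zero => exact fun g _ => mem_Wr_one g
  | succ s ih =>
    intro g h
    have : Nonempty (Fin m) := ⟨⟨0, by omega⟩⟩
    obtain ⟨c₀, hc₀⟩ := exists_ne (0 : J m s → F)
    set i : Fin (s + 2) := 0
    choose l v hlv using h i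
    have hv : ∀ u hu, v u hu ≠ 0 := fun u hu e => by
      obtain ⟨a, ha⟩ := exists_ne (0 : J m (s + 1) → F)
      obtain ⟨b, hb⟩ := hlv u hu a
      rw [e] at hb
      simp only [map_zero] at hb
      exact (T_eq_zero ((app g).map_eq_zero_iff.1 hb.symm)).elim ha hu
    have himg : ∀ u hu, (Li i u).map (app g).toLinearMap = Li (l u hu) (v u hu) := fun u hu => by
      refine Submodule.eq_of_le_of_finrank_eq ?_
        (by rw [LinearEquiv.finrank_map_eq, finrank_Li i hu, finrank_Li _ (hv u hu)])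
      rintro _ ⟨_, ⟨a, rfl⟩, rfl⟩
      exact hlv u hu a
    have hinf : ∀ u hu u' hu', u' ∉ F ∙ u → Li (l u hu) (v u hu) ⊓ Li (l u' hu') (v u' hu') = ⊥ := by
      intro u hu u' hu' hn
      rw [← himg, ← himg, ← Submodule.map_inf _ (app g).injective, Submodule.map_eq_bot_iff,
        eq_bot_iff]
      rintro x ⟨⟨a, rfl⟩, ⟨b, hb⟩⟩
      simp only [LinearMap.flip_apply] at hb
      rw [Submodule.mem_bot]
      by_cases hb0 : b = 0
      · simp [← hb, hb0]
      · exact absurd (mem_span_of_T_eq hb0 hb) hn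
    have hl : ∀ u hu u' hu', l u hu = l u' hu' := by
      have key : ∀ u hu u' hu', u' ∉ F ∙ u → l u hu = l u' hu' := fun u hu u' hu' hn => by
        by_contra hne
        exact inf_Li_ne_bot (Ne.symm hne) (hv u hu) (hv u' hu') (hinf u hu u' hu' hn)
      intro u hu u' hu'
      obtain ⟨w, hw⟩ := C4.TData.exists_indep hm u u'
      have hw0 : w ≠ 0 := fun e => hw (e ▸ Submodule.zero_mem _)
      rw [key u hu w hw0 fun h => hw (Submodule.span_mono (by simp) h),
        key u' hu' w hw0 fun h => hw (Submodule.span_mono (by simp) h)]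
    obtain ⟨u₀, hu₀⟩ := exists_ne (0 : Fin m → F)
    set l₀ := l u₀ hu₀
    set v₀ := v u₀ hu₀
    have hv₀ : v₀ ≠ 0 := hv u₀ hu₀
    obtain ⟨γ₀, hγ₀⟩ := exists_dual hv₀
    let A : (J m (s + 1) → F) →ₗ[F] (J m (s + 1) → F) :=
      ct l₀ γ₀ ∘ₗ (app g).toLinearMap ∘ₗ (T i).flip u₀
    have hA : ∀ a, app g (T i a u₀) = T l₀ (A a) v₀ := fun a => by
      obtain ⟨b, hb⟩ := hlv u₀ hu₀ a
      have h1 : A a = ct l₀ γ₀ (T l₀ b v₀) := congrArg (ct l₀ γ₀) hb.symm
      rw [h1, ct_T, hγ₀, one_smul]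
      exact hb.symm
    have hAi : Function.Injective A := fun a b e => T_inj_left hu₀ ((app g).injective (by
      rw [hA, hA, e]))
    have hAu : ∀ u, ∃ w, ∀ a, app g (T i a u) = T l₀ (A a) w := by
      intro u
      by_cases hn : u ∈ F ∙ u₀
      · obtain ⟨c, rfl⟩ := Submodule.mem_span_singleton.1 hn
        exact ⟨c • v₀, fun a => by rw [map_smul, map_smul, hA, map_smul]⟩
      have hu : u ≠ 0 := fun e => hn (e ▸ Submodule.zero_mem _)
      have hs : u + u₀ ≠ 0 := fun e => hn (Submodule.mem_span_singleton.2 ⟨-1, by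
        rw [neg_smul, one_smul, neg_eq_iff_add_eq_zero, add_comm]; exact e⟩)
      have hn' : v u hu ∉ F ∙ v₀ := fun h => by
        have h0 := hinf u₀ hu₀ u hu hn
        obtain ⟨a, ha⟩ := exists_ne (0 : J m (s + 1) → F)
        have : T l₀ a (v u hu) ∈ Li l₀ v₀ ⊓ Li (l u hu) (v u hu) := by
          refine ⟨?_, by rw [hl u hu u₀ hu₀]; exact T_mem_Li _ _ _⟩
          obtain ⟨c, hc⟩ := Submodule.mem_span_singleton.1 h
          rw [← hc, map_smul]
          exact Submodule.smul_mem _ _ (T_mem_Li _ _ _)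
        rw [h0, Submodule.mem_bot] at this
        exact (T_eq_zero this).elim ha (hv u hu)
      obtain ⟨f, hf1, hf2⟩ := Submodule.exists_le_ker_of_notMem hn'
      obtain ⟨f', hf'1, hf'2⟩ := Submodule.exists_le_ker_of_notMem
        (show v₀ ∉ F ∙ v u hu from fun h => by
          obtain ⟨c, hc⟩ := Submodule.mem_span_singleton.1 h
          have hc0 : c ≠ 0 := fun e => hv₀ (by rw [← hc, e, zero_smul])
          exact hn' (Submodule.mem_span_singleton.2 ⟨c⁻¹, by rw [← hc, inv_smul_smul₀ hc0]⟩))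
      have hfv : f v₀ = 0 := hf2 (Submodule.mem_span_singleton_self _)
      have hf'v : f' (v u hu) = 0 := hf'2 (Submodule.mem_span_singleton_self _)
      refine ⟨((f (v u hu))⁻¹ * f (v (u + u₀) hs) * ((f' (v (u + u₀) hs))⁻¹ * f' v₀)) • v u hu,
        fun a => ?_⟩
      obtain ⟨b, hb⟩ := hlv u hu a
      obtain ⟨b', hb'⟩ := hlv (u + u₀) hs a
      simp only [LinearMap.flip_apply, hl u hu u₀ hu₀, hl (u + u₀) hs u₀ hu₀] at hb hb'
      change T l₀ b (v u hu) = _ at hb
      change T l₀ b' (v (u + u₀) hs) = _ at hb'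
      have key : T l₀ b' (v (u + u₀) hs) = T l₀ b (v u hu) + T l₀ (A a) v₀ := by
        rw [hb', map_add, map_add, ← hb, hA]
      have e1 : f (v (u + u₀) hs) • b' = f (v u hu) • b := by
        simpa [hfv] using congrArg (ct l₀ f) key
      have e2 : f' (v (u + u₀) hs) • b' = f' v₀ • A a := by
        simpa [hf'v] using congrArg (ct l₀ f') key
      by_cases hAa : A a = 0
      · rw [hAi (hAa.trans (map_zero A).symm)]
        simp
      have hne : f' (v (u + u₀) hs) ≠ 0 := fun e => by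
        rw [e, zero_smul] at e2
        exact (smul_eq_zero.1 e2.symm).elim hf'1 hAa
      have hbA : b = ((f (v u hu))⁻¹ * f (v (u + u₀) hs) *
          ((f' (v (u + u₀) hs))⁻¹ * f' v₀)) • A a := by
        rw [← smul_smul, ← smul_smul ((f' (v (u + u₀) hs))⁻¹), ← e2, inv_smul_smul₀ hne,
          ← smul_smul, e1, inv_smul_smul₀ hf1]
      rw [← hb, hbA, map_smul, LinearMap.smul_apply, map_smul]
    obtain ⟨a₀, ha₀⟩ := exists_ne (0 : J m (s + 1) → F)
    have hAa₀ : A a₀ ≠ 0 := fun e => ha₀ (hAi (e.trans (map_zero A).symm))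
    obtain ⟨ψ, hψ⟩ := exists_dual hAa₀
    let B : (Fin m → F) →ₗ[F] (Fin m → F) := lc l₀ ψ ∘ₗ (app g).toLinearMap ∘ₗ T i a₀
    have hB : ∀ a u, app g (T i a u) = T l₀ (A a) (B u) := fun a u => by
      obtain ⟨w, hw⟩ := hAu u
      have : B u = w := by
        show lc l₀ ψ (app g (T i a₀ u)) = w
        rw [hw, lc_T, hψ, one_smul]
      rw [hw, this]
    have hBi : Function.Injective B := fun u u' e =>
      T_inj_right ha₀ ((app g).injective (by rw [hB, hB, e]))
    obtain ⟨XA, hXA⟩ := exists_gl A hAi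
    obtain ⟨XB, hXB⟩ := exists_gl B hBi
    obtain ⟨p, hp, hpT⟩ := exists_perm (F := F) (m := m) i l₀
    have hgp : g = p * kr i XA XB := gl_ext_T i fun a u => by
      rw [map_mul, LinearEquiv.mul_apply, app_kr, hpT, hB, hXA, hXB]
    rw [hgp]
    refine mul_mem hp (kr_mem i (ih XA fun j u hu => ?_) XB)
    obtain ⟨lj, vj, hlj⟩ := h (i.succAbove j) u hu
    have hx : ∀ c q, T l₀ (app XA (T j c u)) (app XB q) ∈ Li lj vj := fun c q => by
      obtain ⟨z, hz⟩ := nested_mem i j c u q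
      rw [hXA, hXB, ← hB, ← hz]
      exact hlj z
    have hne : lj ≠ l₀ := by
      rintro rfl
      have hAc : app XA (T j c₀ u) ≠ 0 := fun e =>
        (T_eq_zero ((app XA).map_eq_zero_iff.1 e)).elim hc₀ hu
      have hall : ∀ q, app XB q ∈ F ∙ vj := fun q => by
        obtain ⟨b, hb⟩ := hx c₀ q
        exact mem_span_of_T_eq hAc hb.symm
      have h1 : (⊤ : Submodule F (Fin m → F)) ≤ F ∙ vj := fun q _ => by
        simpa using hall (app XB⁻¹ q)
      have h2 := Submodule.finrank_mono h1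
      rw [finrank_top, Module.finrank_fintype_fun_eq_card, Fintype.card_fin] at h2
      have h3 := finrank_span_le_card (R := F) ({vj} : Set (Fin m → F))
      simp at h3
      omega
    obtain ⟨j', rfl⟩ := Fin.exists_succAbove_eq hne
    obtain ⟨γ, hγ⟩ := exists_dual (show app XB u₀ ≠ 0 from fun e => hu₀
      ((app XB).map_eq_zero_iff.1 e))
    refine ⟨j', vj, fun c => ?_⟩
    have := ct_mem_Li l₀ j' γ (hx c u₀)
    rwa [ct_T, hγ, one_smul] at this

end Cfsg.Agent.C7
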