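import Cfsg.Agent.Lib.C7.Wreath

/-!
# Products of matrix units in some positions

`Lop S a b` is the tensor product of the matrix units `E (a l) (b l)` in the positions `l ∈ S` with
identities elsewhere.
-/

set_option autoImplicit false
set_option linter.unusedSectionVars false

namespace Cfsg.Agent.C7

open Matrix Module Cfsg.Agent.Transvect
open scoped MatrixGroups

variable {F : Type*} [Field F] {m t : ℕ}

/-- Replace `f` by `b` on `S`. -/
def pw (S : Finset (Fin t)) (b f : J m t) : J m t := fun l => if l ∈ S then b l else f l

/-- `⊗_{l ∈ S} E (a l) (b l)`. -/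
def Lop (S : Finset (Fin t)) (a b : J m t) : Module.End F (J m t → F) where
  toFun x f := if ∀ l ∈ S, f l = a l then x (pw S b f) else 0
  map_add' x y := by funext f; simp only [Pi.add_apply]; split_ifs <;> simp
  map_smul' c x := by funext f; simp only [Pi.smul_apply, RingHom.id_apply]; split_ifs <;> simp

lemma Lop_apply (S : Finset (Fin t)) (a b : J m t) (x : J m t → F) (f : J m t) :
    Lop S a b x f = if ∀ l ∈ S, f l = a l then x (pw S b f) else 0 := rfl

lemma Lop_congr {S : Finset (Fin t)} {a a' b b' : J m t} (ha : ∀ l ∈ S, a l = a' l)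
    (hb : ∀ l ∈ S, b l = b' l) : (Lop S a b : Module.End F (J m t → F)) = Lop S a' b' := by
  refine LinearMap.ext fun x => funext fun f => ?_
  rw [Lop_apply, Lop_apply, show pw S b f = pw S b' f from funext fun l => by
    unfold pw; split_ifs with h
    · exact hb l h
    · rfl]
  refine if_congr ⟨fun h l hl => ?_, fun h l hl => ?_⟩ rfl rfl
  · rw [h l hl, ha l hl]
  · rw [h l hl, ha l hl]

lemma Lop_empty (a b : J m t) : (Lop ∅ a b : Module.End F (J m t → F)) = 1 := by
  refine LinearMap.ext fun x => funext fun f => ?_
  simp [Lop_apply, show pw ∅ b f = f from funext fun l => by simp [pw]]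

lemma Lop_mul (S S' : Finset (Fin t)) (a b a' b' : J m t) :
    (Lop S a b * Lop S' a' b' : Module.End F (J m t → F)) =
      if ∀ l ∈ S ∩ S', b l = a' l then Lop (S ∪ S') (pw S a a') (pw S' b' b) else 0 := by
  refine LinearMap.ext fun x => funext fun f => ?_
  rw [Module.End.mul_apply, Lop_apply]
  split_ifs with h1 h2 h2
  · rw [Lop_apply, Lop_apply]
    by_cases h3 : ∀ l ∈ S', pw S b f l = a' l
    · rw [if_pos h3, if_pos]
      · congr 1
        funext l
        unfold pw
        by_cases hl : l ∈ S' <;> by_cases hl' : l ∈ S <;> simp [hl, hl']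
      · intro l hl
        unfold pw at h3 ⊢
        by_cases hl' : l ∈ S
        · simp [hl', h1 l hl']
        · have := h3 l ((Finset.mem_union.1 hl).resolve_left hl')
          simp only [hl', if_false] at this ⊢
          exact this
    · rw [if_neg h3, if_neg]
      intro h4
      apply h3
      intro l hl
      unfold pw at h4 ⊢
      by_cases hl' : l ∈ S
      · simp [hl', h2 l (Finset.mem_inter.2 ⟨hl', hl⟩)]
      · have := h4 l (Finset.mem_union_right _ hl)
        simp only [hl', if_false] at this ⊢
        exact this
  · rw [Lop_apply, if_neg]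
    · rfl
    · intro h3
      apply h2
      intro l hl
      have := h3 l (Finset.mem_inter.1 hl).2
      simpa [pw, (Finset.mem_inter.1 hl).1] using this
  · rw [Lop_apply, if_neg]
    intro h3
    apply h1
    intro l hl
    have := h3 l (Finset.mem_union_left _ hl)
    simpa [pw, hl] using this
  · rfl

lemma Lop_mul_self {S : Finset (Fin t)} {a b : J m t} (h : ∃ l ∈ S, a l ≠ b l) :
    (Lop S a b * Lop S a b : Module.End F (J m t → F)) = 0 := by
  obtain ⟨l, hl, hne⟩ := h
  rw [Lop_mul, if_neg]
  exact fun h => hne (h l (by simpa using hl)).symm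

/-- One position. -/
def E (j : Fin t) (a b : Fin m) : Module.End F (J m t → F) := Lop {j} (fun _ => a) (fun _ => b)

lemma E_mul (j : Fin t) (a b c d : Fin m) :
    (E j a b * E j c d : Module.End F (J m t → F)) = if b = c then E j a d else 0 := by
  rw [E, E, Lop_mul]
  split_ifs with h1 h2 h2
  · rw [Finset.union_self]
    exact Lop_congr (fun l hl => by simp [pw, hl]) (fun l hl => by simp [pw, hl])
  · exact absurd (h1 j (by simp)) h2
  · exact absurd (fun l _ => h2) h1
  · rfl

lemma E_mul_self_left (j : Fin t) (a b : Fin m) :
    (E j a a * E j a b : Module.End F (J m t → F)) = E j a b := by rw [E_mul, if_pos rfl]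

lemma E_mul_self_right (j : Fin t) (a b : Fin m) :
    (E j a b * E j b b : Module.End F (J m t → F)) = E j a b := by rw [E_mul, if_pos rfl]

lemma E_apply (j : Fin t) (a b : Fin m) (x : J m t → F) (f : J m t) :
    E j a b x f = if f j = a then x (Function.update f j b) else 0 := by
  rw [E, Lop_apply]
  simp only [Finset.mem_singleton, forall_eq]
  rw [show pw {j} (fun _ => b) f = Function.update f j b from funext fun l => by
    by_cases h : l = j
    · subst h; simp [pw]
    · simp [pw, h]]

lemma sum_E (j : Fin t) : (∑ d : Fin m, E j d d : Module.End F (J m t → F)) = 1 := by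
  refine LinearMap.ext fun x => funext fun f => ?_
  rw [LinearMap.sum_apply, Finset.sum_apply, Finset.sum_eq_single (f j)]
  · simp [E_apply]
  · intro d _ hd; simp [E_apply, Ne.symm hd]
  · simp

lemma Lop_insert {S : Finset (Fin t)} {j : Fin t} (hj : j ∉ S) (a b : J m t) (c d : Fin m) :
    (Lop S a b * E j c d : Module.End F (J m t → F)) =
      Lop (insert j S) (Function.update a j c) (Function.update b j d) := by
  rw [E, Lop_mul, if_pos (by intro l hl; simp only [Finset.mem_inter, Finset.mem_singleton] at hl
                             exact absurd (hl.2 ▸ hl.1) hj)]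
  rw [show S ∪ {j} = insert j S by ext l; simp [or_comm]]
  refine Lop_congr (fun l hl => ?_) (fun l hl => ?_)
  · by_cases h : l = j
    · subst h; simp [pw, hj]
    · simp [pw, h, (Finset.mem_insert.1 hl).resolve_left h]
  · by_cases h : l = j
    · subst h; simp [pw]
    · simp [pw, h]

lemma Lop_comm_E {S : Finset (Fin t)} {j : Fin t} (hj : j ∉ S) (a b : J m t) (c d : Fin m) :
    Commute (Lop S a b : Module.End F (J m t → F)) (E j c d) := by
  show _ * _ = _ * _
  rw [E, Lop_mul, Lop_mul, if_pos, if_pos, Finset.union_comm]
  · refine Lop_congr (fun l hl => ?_) (fun l hl => ?_) <;>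
      by_cases h : l = j <;> by_cases h' : l ∈ S <;> simp_all [pw]
  · intro l hl; simp only [Finset.mem_inter, Finset.mem_singleton] at hl
    exact absurd (hl.1 ▸ hl.2) hj
  · intro l hl; simp only [Finset.mem_inter, Finset.mem_singleton] at hl
    exact absurd (hl.2 ▸ hl.1) hj

/-- An operator commuting with all units in the positions of `S` commutes with their products. -/
lemma commute_Lop {X : Module.End F (J m t → F)} (S : Finset (Fin t))
    (h : ∀ j ∈ S, ∀ c d, Commute X (E j c d)) (a b : J m t) : Commute X (Lop S a b) := by
  induction S using Finset.induction_on with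
  | empty => rw [Lop_empty]; exact Commute.one_right X
  | @insert j S hj ih =>
    have e : (Lop (insert j S) a b : Module.End F (J m t → F)) = Lop S a b * E j (a j) (b j) := by
      rw [Lop_insert hj, Function.update_eq_self, Function.update_eq_self]
    rw [e]
    exact (ih fun l hl => h l (Finset.mem_insert_of_mem hl)).mul_right
      (h j (Finset.mem_insert_self _ _) _ _)

lemma eq_zero_of_Lop_mul {X : Module.End F (J m t → F)} {S : Finset (Fin t)}
    (h : ∀ j ∈ S, ∀ c d, Commute X (E j c d)) {a b : J m t}
    (h0 : Lop S a b * X = 0) : X = 0 := by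
  refine LinearMap.ext fun x => funext fun f => ?_
  have hp : ∀ c d, (Lop S c b * Lop S b d : Module.End F (J m t → F)) = Lop S c d := fun c d => by
    rw [Lop_mul, if_pos fun l hl => rfl, Finset.union_self]
    exact Lop_congr (fun l hl => by simp [pw, hl]) (fun l hl => by simp [pw, hl])
  have hq : ∀ c, (Lop S c a * Lop S a b : Module.End F (J m t → F)) = Lop S c b := fun c => by
    rw [Lop_mul, if_pos fun l hl => rfl, Finset.union_self]
    exact Lop_congr (fun l hl => by simp [pw, hl]) (fun l hl => by simp [pw, hl])
  have e : Lop S f f * X = 0 := by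
    rw [← hp f f, mul_assoc, ← (commute_Lop S h b f).eq, ← mul_assoc, ← hq f, mul_assoc (Lop S f a),
      h0, mul_zero, zero_mul]
  have := congrFun (LinearMap.congr_fun e x) f
  rw [Module.End.mul_apply, Lop_apply, if_pos fun l _ => rfl,
    show pw S f f = f from funext fun l => by simp [pw]] at this
  exact this

/-- An operator commuting with all units is scalar. -/
lemma scalar_of_commute {X : Module.End F (J m t → F)}
    (h : ∀ j c d, Commute X (E j c d)) : ∃ c : F, ∀ x, X x = c • x := by
  rcases isEmpty_or_nonempty (J m t) with he | ⟨⟨o⟩⟩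
  · exact ⟨0, fun x => funext fun f => (he.false f).elim⟩
  have hL : ∀ f g x, X (Lop Finset.univ f g x) = Lop Finset.univ f g (X x) := fun f g x =>
    LinearMap.congr_fun (commute_Lop _ (fun j _ => h j) f g).eq x
  have hU : ∀ (f g : J m t) (x : J m t → F),
      Lop Finset.univ f g x = x g • Pi.single f (1 : F) := fun f g x => by
    funext y
    rw [Lop_apply, Pi.smul_apply, Pi.single_apply, smul_eq_mul, mul_ite, mul_one, mul_zero]
    refine if_congr ⟨fun hy => funext fun l => hy l (Finset.mem_univ l), fun hy l _ => by rw [hy]⟩
      ?_ rfl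
    congr 1
    funext l
    simp [pw]
  have hd : ∀ f x, X x f = x f * X (Pi.single f 1) f := fun f x => by
    have := congrFun (hL f f x) f
    rw [hU, hU, map_smul] at this
    simpa [Pi.smul_apply] using this.symm
  have hc : ∀ f g, X (Pi.single f 1) f = X (Pi.single g 1) g := fun f g => by
    have := congrFun (hL f g (Pi.single g 1)) f
    rw [hU, hU, Pi.single_eq_same, one_smul] at this
    simpa using this
  refine ⟨X (Pi.single o 1) o, fun x => funext fun f => ?_⟩
  rw [hd, hc f o, Pi.smul_apply, smul_eq_mul, mul_comm]

end Cfsg.Agent.C7
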