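import Cfsg.Agent.Lib.C7.Roots

/-!
# Conjugates of decomposable elements inside the wreath group

Such an element `y = g r g⁻¹` is decomposable, or swaps two factors; the latter is impossible when
every element of the stabiliser commuting with `y` is carried into the wreath group by `g`.
-/

set_option autoImplicit false
set_option linter.unusedSectionVars false

namespace Cfsg.Agent.C7

open Matrix Module Cfsg.Agent.Transvect
open scoped MatrixGroups

variable {F : Type*} [Field F] [Fintype F] {m t s : ℕ}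

lemma exists_not_eigen (f : (Fin m → F) →ₗ[F] (Fin m → F))
    (h : ∀ c : F, ∃ q, f q ≠ c • q) : ∃ q, f q ∉ F ∙ q := by
  by_contra! hall
  choose c hc using fun q => Submodule.mem_span_singleton.1 (hall q)
  rcases Nat.eq_zero_or_pos m with rfl | hm
  · obtain ⟨q, hq⟩ := h 0
    exact hq (Subsingleton.elim _ _)
  set z : Fin m := ⟨0, hm⟩
  have hcc : ∀ d, c (Pi.single d 1) = c (Pi.single z 1) := by
    intro d
    by_cases hd : d = z
    · rw [hd]
    have h1 := hc (Pi.single d 1 + Pi.single z 1)
    rw [map_add, ← hc, ← hc] at h1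
    have h2 := congrFun h1 d
    have h3 := congrFun h1 z
    simp [hd, Ne.symm hd] at h2 h3
    rw [← h2, h3]
  obtain ⟨q, hq⟩ := h (c (Pi.single z 1))
  refine hq ?_
  conv_lhs => rw [pi_eq_sum_univ' q, map_sum]
  conv_rhs => rw [pi_eq_sum_univ' q, Finset.smul_sum]
  exact Finset.sum_congr rfl fun d _ => by rw [map_smul, ← hc, hcc, smul_comm]

lemma E_eq_T (i : Fin (t + 1)) (a b : Fin m) (x : J m (t + 1) → F) :
    E i a b x = T i (ct i (LinearMap.proj b) x) (Pi.single a 1) := by
  funext f
  rw [E_apply, T_apply]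
  by_cases h : f i = a
  · rw [if_pos h, h, Pi.single_eq_same, mul_one]
    show x _ = x (ins i b fun l => f (i.succAbove l))
    congr 1
    exact (Fin.insertNth_eq_iff.2 ⟨by simp, by funext l; simp [Fin.removeNth]⟩).symm
  · rw [if_neg h, Pi.single_eq_of_ne h]; simp

/-- All positions fixed with scalar parts: then `y` is scalar. -/
lemma eq_smul_of_scalar (hm : 3 ≤ m) {y : GL (J m (t + 1)) F}
    (h : ∀ i, ∃ (X : GL (J m t) F) (B : GL (Fin m) F),
      (∀ a q, app y (T i a q) = T i (app X a) (app B q)) ∧ ∃ c : F, ∀ q, app B q = c • q) :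
    ∃ c : F, ∀ x, app y x = c • x := by
  refine scalar_of_commute (X := (app y).toLinearMap) fun i a b => ?_
  obtain ⟨X, B, hy, c, hc⟩ := h i
  have key : ∀ (u : Fin m → F) (α : (Fin m → F) →ₗ[F] F), α u = 0 →
      ∀ x, app y (T i (ct i α x) u) = T i (ct i α (app y x)) u := by
    intro u α hαu x
    have e : y * rt i LinearMap.id u α * y⁻¹ = rt i LinearMap.id u α := by
      rw [conj_rt_one hy hαu]
      refine gl_ext_T i fun d q => ?_
      have h1 : (α ∘ₗ (app B⁻¹).toLinearMap) (app B u) = 0 := by simp [-app_apply, hαu]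
      rw [rt_T h1, rt_T hαu, LinearMap.id_apply, hc, map_smul, smul_smul]
      congr 2
      have h2 : α q = c * α (app B⁻¹ q) := by
        conv_lhs => rw [← app_app_inv B q, hc, map_smul, smul_eq_mul]
      rw [h2, mul_comm]
      rfl
    rw [mul_inv_eq_iff_eq_mul] at e
    have := congrArg (fun g => app g x) e
    simp only [map_mul, LinearEquiv.mul_apply, rt_apply hαu, map_add, LinearMap.id_apply] at this
    exact add_left_cancel this
  have hne : ∀ a b, a ≠ b →
      Commute ((app y).toLinearMap : Module.End F (J m (t + 1) → F)) (E i a b) := by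
    intro a b hab
    refine LinearMap.ext fun x => ?_
    simp only [Module.End.mul_apply, LinearEquiv.coe_coe, E_eq_T]
    exact key _ _ (by simp [Ne.symm hab]) x
  rcases ne_or_eq a b with hab | rfl
  · exact hne a b hab
  obtain ⟨e, he, -⟩ := exists_ne₂ hm a a
  rw [show (E i a a : Module.End F (J m (t + 1) → F)) = E i a e * E i e a by
    rw [E_mul, if_pos rfl]]
  exact (hne a e he.symm).mul_right (hne e a he)

/-- A position mapped to itself with a non-scalar part. -/
lemma isDec_of_diag (hm : 3 ≤ m) {y : GL (J m (t + 1)) F}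
    (hrank : finrank F (C4.res y) = m ^ t) (hfix : ∀ z ∈ C4.res y, app y z = z)
    {i : Fin (t + 1)} {X : GL (J m t) F} {B : GL (Fin m) F}
    (hy : ∀ a q, app y (T i a q) = T i (app X a) (app B q)) {q : Fin m → F}
    (hq : app B q ∉ F ∙ q) : IsDec y := by
  have : Nonempty (Fin m) := ⟨⟨0, by omega⟩⟩
  let Φ : (J m t → F) →ₗ[F] C4.res y :=
    (((app y).toLinearMap - LinearMap.id) ∘ₗ (T i).flip q).codRestrict _ fun a => C4.mem_res _
  obtain ⟨f, hf1, hf2⟩ := Submodule.exists_le_ker_of_notMem hq
  have hfq : f q = 0 := hf2 (Submodule.mem_span_singleton_self q)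
  have hΦ : Function.Injective Φ := by
    rw [injective_iff_map_eq_zero]
    intro a ha
    have h1 : app y (T i a q) - T i a q = 0 := congrArg Subtype.val ha
    rw [hy] at h1
    have h2 := congrArg (ct i f) h1
    rw [map_sub, map_zero, ct_T, ct_T, hfq, zero_smul, sub_zero] at h2
    exact (app X).map_eq_zero_iff.1 ((smul_eq_zero.1 h2).resolve_left hf1)
  have hΦs : Function.Surjective Φ :=
    (LinearMap.injective_iff_surjective_of_finrank_eq_finrank (by rw [hrank]; simp)).1 hΦ
  obtain ⟨b, hb⟩ := C4.TData.exists_indep hm q (app B q)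
  obtain ⟨ε', hε1, hε2⟩ := Submodule.exists_le_ker_of_notMem hb
  set ε := (ε' b)⁻¹ • ε'
  have hεq : ε q = 0 := by
    simp [ε, LinearMap.mem_ker.1 (hε2 (Submodule.subset_span (Set.mem_insert q _)))]
  have hεBq : ε (app B q) = 0 := by
    simp [ε, -app_apply, LinearMap.mem_ker.1 (hε2 (Submodule.subset_span (by simp : app B q ∈ _)))]
  have hεb : ε b = 1 := by simp [ε, hε1]
  have hX : ∀ a, ε (app B b) • app X a = a := by
    intro a
    obtain ⟨a', ha'⟩ := hΦs ⟨_, C4.mem_res (T i a b)⟩
    have h1 : app y (T i a' q) - T i a' q = app y (T i a b) - T i a b := congrArg Subtype.val ha'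
    rw [hy, hy] at h1
    have h2 := congrArg (ct i ε) h1
    rw [map_sub, map_sub, ct_T, ct_T, ct_T, ct_T, hεq, hεBq, hεb, zero_smul, zero_smul, sub_zero,
      one_smul, eq_comm, sub_eq_zero] at h2
    exact h2
  set c := ε (app B b)
  have hc : c ≠ 0 := fun e => by
    obtain ⟨a, ha⟩ := exists_ne (0 : J m t → F)
    exact ha (by rw [← hX a, e, zero_smul])
  let N : (Fin m → F) →ₗ[F] (Fin m → F) := c⁻¹ • (app B).toLinearMap - LinearMap.id
  have hyN : ∀ a w, app y (T i a w) = T i a w + T i a (N w) := fun a w => by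
    rw [hy]
    have : app X a = c⁻¹ • a := by rw [eq_inv_smul_iff₀ hc]; exact hX a
    simp only [N, this, map_smul, LinearMap.smul_apply, LinearMap.sub_apply, LinearMap.id_apply,
      map_sub, LinearEquiv.coe_coe]
    abel
  set v := N q with hv
  have hv0 : v ≠ 0 := fun e => hq (Submodule.mem_span_singleton.2 ⟨c, by
    have h1 : c⁻¹ • app B q = q := sub_eq_zero.1 e
    conv_lhs => rw [← h1]
    rw [smul_inv_smul₀ hc]⟩)
  have hres : ∀ w, N w ∈ F ∙ v := by
    intro w
    obtain ⟨a, ha⟩ := exists_ne (0 : J m t → F)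
    obtain ⟨a', ha'⟩ := hΦs ⟨_, C4.mem_res (T i a w)⟩
    have h1 : app y (T i a' q) - T i a' q = app y (T i a w) - T i a w := congrArg Subtype.val ha'
    rw [hyN, hyN, add_sub_cancel_left, add_sub_cancel_left] at h1
    exact mem_span_of_T_eq ha h1.symm
  obtain ⟨δ, hδ⟩ := exists_dual hv0
  set α := δ ∘ₗ N
  have hN : ∀ w, N w = α w • v := fun w => by
    obtain ⟨d, hd⟩ := Submodule.mem_span_singleton.1 (hres w)
    rw [show α w = d from by show δ (N w) = d; rw [← hd, map_smul, hδ, smul_eq_mul, mul_one]]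
    exact hd.symm
  have hαv : α v = 0 := by
    obtain ⟨a, ha⟩ := exists_ne (0 : J m t → F)
    have h1 := hfix _ (C4.mem_res (T i a q))
    rw [hyN, add_sub_cancel_left, hyN, add_eq_left, ← hv, hN, map_smul, smul_eq_zero] at h1
    exact h1.resolve_right fun e => (T_eq_zero e).elim ha hv0
  refine ⟨i, v, α, hv0, fun e => ?_, hαv, gl_ext_T i fun a w => ?_⟩
  · exact hv0 (by rw [hv, hN q, e, LinearMap.zero_apply, zero_smul])
  · rw [rt_T hαv, hyN, hN, map_smul, LinearMap.id_apply]

/-! ### Two positions -/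

variable {i : Fin (s + 2)} {j : Fin (s + 1)} {B : GL (Fin m) F}

lemma nested_eq (i : Fin (s + 2)) (j : Fin (s + 1)) (c : J m s → F) (q : Fin m → F) :
    ∃ z, ∀ u, T i (T j c u) q = T (i.succAbove j) z u := by
  rcases isEmpty_or_nonempty (Fin m) with he | ⟨⟨d⟩⟩
  · exact ⟨0, fun u => funext fun f => (he.false (f i)).elim⟩
  let φ : J m (s + 2) → F := fun f => c (fun r => f (i.succAbove (j.succAbove r))) * q (f i)
  refine ⟨fun g => φ (ins (i.succAbove j) d g), fun u => funext fun f => ?_⟩
  have hφ : φ (ins (i.succAbove j) d fun r => f ((i.succAbove j).succAbove r)) = φ f := by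
    have hp : ∀ p, p ≠ i.succAbove j →
        ins (i.succAbove j) d (fun r => f ((i.succAbove j).succAbove r)) p = f p := fun p hp => by
      obtain ⟨r, rfl⟩ := Fin.exists_succAbove_eq hp
      simp [ins]
    simp only [φ]
    rw [hp i (i.succAbove_ne j).symm]
    congr 2
    funext r
    exact hp _ fun h => j.succAbove_ne r (Fin.succAbove_right_injective h)
  show c (fun r => f (i.succAbove (j.succAbove r))) * u (f (i.succAbove j)) * q (f i) = _
  rw [T_apply, hφ]
  ring

/-- The component of positions `(i, i.succAbove j)` along `e c ⊗ B (e d)`. -/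
noncomputable def cmp (i : Fin (s + 2)) (j : Fin (s + 1)) (B : GL (Fin m) F) (c d : Fin m) :
    (J m s → F) →ₗ[F] (J m (s + 2) → F) :=
  (T i).flip (Pi.single c 1) ∘ₗ (T j).flip (app B (Pi.single d 1))

/-- The coefficient along `cmp`. -/
noncomputable def coef (i : Fin (s + 2)) (j : Fin (s + 1)) (B : GL (Fin m) F) (c d : Fin m) :
    (J m (s + 2) → F) →ₗ[F] (J m s → F) :=
  ct j (LinearMap.proj d ∘ₗ (app B⁻¹).toLinearMap) ∘ₗ ct i (LinearMap.proj c)

lemma cmp_eq (c d : Fin m) (x : J m s → F) :
    cmp i j B c d x = T i (T j x (app B (Pi.single d 1))) (Pi.single c 1) := rfl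

lemma coef_cmp (a b c d : Fin m) (x : J m s → F) :
    coef i j B a b (cmp i j B c d x) = if a = c ∧ b = d then x else 0 := by
  simp only [coef, cmp_eq, LinearMap.comp_apply, LinearMap.proj_apply, ct_T, map_smul,
    LinearEquiv.coe_coe, app_inv_app, Pi.single_apply, ite_and]
  split_ifs <;> simp

lemma sum_cmp (z : J m (s + 2) → F) :
    ∑ c, ∑ d, cmp i j B c d (coef i j B c d z) = z := by
  conv_rhs => rw [← sum_T_single i z]
  refine Finset.sum_congr rfl fun c _ => ?_
  simp only [cmp_eq, coef, LinearMap.comp_apply]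
  rw [show (fun g => z (ins i c g)) = ct i (LinearMap.proj c) z from rfl]
  generalize ct i (LinearMap.proj c) z = w
  rw [← LinearMap.sum_apply, ← map_sum]
  congr 2
  have h : ∑ d, ((T j).flip (app B (Pi.single d 1)) ∘ₗ
      ct j (LinearMap.proj d ∘ₗ (app B⁻¹).toLinearMap)) = LinearMap.id := by
    refine lin_ext j fun a q => ?_
    simp only [LinearMap.sum_apply, LinearMap.comp_apply, ct_T, LinearMap.flip_apply, map_smul,
      LinearMap.smul_apply, LinearMap.proj_apply, LinearEquiv.coe_coe, LinearMap.id_apply]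
    simp only [← map_smul (T j a), ← map_sum]
    congr 1
    conv_rhs => rw [← app_app_inv B q, pi_eq_sum_univ' (app B⁻¹ q), map_sum]
    exact Finset.sum_congr rfl fun d _ => (map_smul (app B) _ _).symm
  exact (LinearMap.sum_apply _ _ w).symm.trans (LinearMap.congr_fun h w)

lemma ext_coef {z z' : J m (s + 2) → F}
    (h : ∀ a b, coef i j B a b z = coef i j B a b z') : z = z' := by
  rw [← sum_cmp (i := i) (j := j) (B := B) z, ← sum_cmp (i := i) (j := j) (B := B) z']
  simp only [h]

lemma lin_ext_cmp {M₀ : Type*} [AddCommGroup M₀] [Module F M₀]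
    {f g : (J m (s + 2) → F) →ₗ[F] M₀}
    (h : ∀ c d x, f (cmp i j B c d x) = g (cmp i j B c d x)) : f = g := by
  refine LinearMap.ext fun z => ?_
  rw [← sum_cmp (i := i) (j := j) (B := B) z]
  simp only [map_sum, h]

/-- An involution exchanging two positions exchanges their components, and with small rank it fixes
the diagonal ones. -/
lemma swap_small (hm : 3 ≤ m) {y : GL (J m (s + 2)) F} {X : GL (J m (s + 1)) F}
    (hy : ∀ a q, app y (T i a q) = T (i.succAbove j) (app X a) (app B q))
    (hsq : ∀ x, app y (app y x) = x) (hrank : finrank F (C4.res y) ≤ m ^ (s + 1)) :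
    m = 3 ∧ (∀ c d x, ∃ x', app y (cmp i j B c d x) = cmp i j B d c x') ∧
      ∀ a x, app y (cmp i j B a a x) = cmp i j B a a x := by
  have hback : ∀ a q, app y (T (i.succAbove j) (app X a) (app B q)) = T i a q := fun a q => by
    rw [← hy, hsq]
  have hswap : ∀ c d x, ∃ x', app y (cmp i j B c d x) = cmp i j B d c x' := by
    intro c d x
    set z := app y (cmp i j B c d x)
    have hl : z ∈ Li (i.succAbove j) (app B (Pi.single c 1)) :=
      ⟨app X (T j x (app B (Pi.single d 1))), (hy _ _).symm⟩
    have hi : z ∈ Li i (Pi.single d 1) := by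
      obtain ⟨w, hw⟩ := nested_eq i j x (Pi.single c 1)
      refine ⟨app X⁻¹ w, ?_⟩
      show T i _ _ = app y (T i (T j x _) _)
      rw [hw, ← hback, app_app_inv]
    refine ⟨coef i j B d c z, ext_coef (i := i) (j := j) (B := B) fun a b => ?_⟩
    rw [coef_cmp]
    by_cases ha : a = d
    · by_cases hb : b = c
      · rw [if_pos ⟨ha, hb⟩, ha, hb]
      · rw [if_neg fun h => hb h.2]
        show ct j (LinearMap.proj b ∘ₗ (app B⁻¹).toLinearMap) (ct i (LinearMap.proj a) z) = 0
        refine ct_Li ?_ (ct_mem_Li i j (LinearMap.proj a) hl)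
        simp [-app_apply, hb]
    · rw [if_neg fun h => ha h.1, coef, LinearMap.comp_apply, ct_Li (by simp [ha]) hi, map_zero]
  let N : (J m (s + 2) → F) →ₗ[F] C4.res y :=
    ((app y).toLinearMap - LinearMap.id).codRestrict _ fun x => C4.mem_res x
  have hN : ∀ {ι : Type} [Fintype ι] (p : ι → Fin m × Fin m), Function.Injective p →
      (∀ k, (p k).1 < (p k).2) → ∃ Φ : (ι → J m s → F) →ₗ[F] C4.res y, Function.Injective Φ ∧
      ∀ (w : ι → J m s → F) (k : ι),
        coef i j B (p k).1 (p k).2 (Φ w : J m (s + 2) → F) = -(w k) := by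
    intro ι _ p hp hlt
    let Φ : (ι → J m s → F) →ₗ[F] C4.res y := ∑ k, N ∘ₗ cmp i j B (p k).1 (p k).2 ∘ₗ
      (LinearMap.proj k : (ι → J m s → F) →ₗ[F] J m s → F)
    have key : ∀ (w : ι → J m s → F) (k : ι),
        coef i j B (p k).1 (p k).2 (Φ w : J m (s + 2) → F) = -(w k) := by
      intro w k
      simp only [Φ, LinearMap.sum_apply, LinearMap.comp_apply, Submodule.coe_sum, map_sum,
        LinearMap.proj_apply, N, LinearMap.codRestrict_apply, LinearMap.sub_apply,
        LinearEquiv.coe_coe, LinearMap.id_apply, map_sub]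
      rw [Finset.sum_eq_single k]
      · obtain ⟨x', e⟩ := hswap (p k).1 (p k).2 (w k)
        rw [e, coef_cmp, coef_cmp, if_neg fun h => (hlt k).ne h.1, if_pos ⟨rfl, rfl⟩, zero_sub]
      · intro k' _ hk'
        obtain ⟨x', e⟩ := hswap (p k').1 (p k').2 (w k')
        rw [e, coef_cmp, coef_cmp, if_neg, if_neg, sub_zero]
        · exact fun h => hk' (hp (Prod.ext h.1.symm h.2.symm))
        · intro h
          have := hlt k
          rw [h.1, h.2] at this
          exact absurd this (hlt k').asymm
      · simp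
    refine ⟨Φ, (injective_iff_map_eq_zero _).2 fun w hw => funext fun k => ?_, key⟩
    have := key w k
    rw [hw] at this
    simpa [eq_comm] using this
  have hm3 : m = 3 := by
    by_contra hne
    let p : Fin (m - 1) ⊕ Fin 2 → Fin m × Fin m := Sum.elim
      (fun k => (⟨0, by omega⟩, ⟨k + 1, by omega⟩)) (fun k => (⟨1, by omega⟩, ⟨k + 2, by omega⟩))
    have hp : Function.Injective p := by
      rintro (a | a) (b | b) h <;> simp [p, Fin.ext_iff] at h ⊢ <;> omega
    have hlt : ∀ k, (p k).1 < (p k).2 := by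
      rintro (a | a) <;> simp [p, Fin.lt_def]
    obtain ⟨Φ, hΦ, -⟩ := hN p hp hlt
    have h1 := LinearMap.finrank_le_finrank_of_injective hΦ
    rw [Module.finrank_pi_fintype] at h1
    simp only [Module.finrank_fintype_fun_eq_card, Fintype.card_fun, Fintype.card_fin,
      Finset.sum_const, Finset.card_univ, Fintype.card_sum, smul_eq_mul] at h1
    have h2 := h1.trans hrank
    rw [pow_succ] at h2
    have : 0 < m ^ s := pow_pos (by omega) s
    have h3 : (m - 1 + 2) * m ^ s = m ^ s * m + m ^ s := by
      rw [show m - 1 + 2 = m + 1 by omega]; ring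
    omega
  refine ⟨hm3, hswap, fun a x => ?_⟩
  subst hm3
  let p : Fin 3 → Fin 3 × Fin 3 := ![(0, 1), (0, 2), (1, 2)]
  obtain ⟨Φ, hinj, key⟩ := hN p (by decide) (by decide)
  have hsurj := (LinearMap.injective_iff_surjective_of_finrank_eq_finrank (by
    refine le_antisymm ?_ ?_
    · exact LinearMap.finrank_le_finrank_of_injective hinj
    · refine hrank.trans (le_of_eq ?_)
      simp [Module.finrank_pi_fintype, pow_succ, mul_comm])).1 hinj
  obtain ⟨w, hw⟩ := hsurj (N (cmp i j B a a x))
  obtain ⟨x', hx'⟩ := hswap a a x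
  have hw0 : w = 0 := funext fun k => by
    have h1 := key w k
    rw [hw] at h1
    simp only [N, LinearMap.codRestrict_apply, LinearMap.sub_apply, LinearEquiv.coe_coe,
      LinearMap.id_apply, map_sub, hx', coef_cmp] at h1
    have : ¬ ((p k).1 = a ∧ (p k).2 = a) := fun h =>
      ((by decide : ∀ k : Fin 3, (![((0 : Fin 3), (1 : Fin 3)), (0, 2), (1, 2)] k).1 ≠
        (![((0 : Fin 3), (1 : Fin 3)), (0, 2), (1, 2)] k).2) k) (h.1.trans h.2.symm)
    rw [if_neg this, if_neg this, sub_zero, zero_eq_neg] at h1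
    exact h1
  rw [hw0, map_zero] at hw
  exact sub_eq_zero.1 (congrArg Subtype.val hw).symm

lemma neg_eq_self₂ {W : Type*} [AddCommGroup W] [Module F W] (h2 : (2 : F) = 0) (z : W) :
    -z = z := by
  rw [neg_eq_iff_add_eq_zero, ← two_smul F z, h2, zero_smul]

/-- A decomposable element is not conjugate to an exchange of two positions, under the condition on
the centraliser. -/
lemma not_swap (hm : 3 ≤ m) (h2 : (2 : F) = 0) {y g r : GL (J m (s + 2)) F} (hr : IsDec r)
    (hyg : y = g * r * g⁻¹)
    (hcent : ∀ δ ∈ stab F m (s + 2), δ * y = y * δ → g⁻¹ * δ * g ∈ Wr F m (s + 2))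
    {X : GL (J m (s + 1)) F}
    (hy : ∀ a q, app y (T i a q) = T (i.succAbove j) (app X a) (app B q)) : False := by
  have hsq : ∀ x, app y (app y x) = x := fun x => by
    have h := fix_res_conj g hr (z := app y x - x) (by rw [← hyg]; exact C4.mem_res x)
    rw [← hyg, map_sub, sub_eq_iff_eq_add] at h
    rw [h, sub_add_eq_add_sub, ← two_smul F, h2, zero_smul, zero_sub, neg_eq_self₂ h2]
  obtain ⟨hm3, hswap, hdiag⟩ := swap_small hm hy hsq (by rw [hyg, finrank_res_conj g hr])
  subst hm3
  -- the centralising elements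
  set l := i.succAbove j
  let e : Fin 3 → Fin 3 → F := fun c => Pi.single c 1
  let φ : Fin 3 → (Fin 3 → F) →ₗ[F] F := fun d => LinearMap.proj d ∘ₗ (app B⁻¹).toLinearMap
  have hφ : ∀ c a, c ≠ a → φ a (app B (e c)) = 0 := fun c a h => by
    simp [φ, e, -app_apply, h.symm]
  have hε : ∀ c a, c ≠ a → (LinearMap.proj a : (Fin 3 → F) →ₗ[F] F) (e c) = 0 := fun c a h => by
    simp [e, h.symm]
  let δ : Fin 3 → Fin 3 → GL (J 3 (s + 2)) F := fun c a =>
    rt i LinearMap.id (e c) (LinearMap.proj a) * rt l LinearMap.id (app B (e c)) (φ a)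
  have hRl : ∀ c a, c ≠ a → ∀ p d x, app (rt l LinearMap.id (app B (e c)) (φ a)) (cmp i j B p d x) =
      cmp i j B p d x + if d = a then cmp i j B p c x else 0 := by
    intro c a hca p d x
    obtain ⟨z, hz⟩ := nested_eq i j x (Pi.single p 1)
    rw [cmp_eq, cmp_eq, hz, hz, rt_T (hφ c a hca), LinearMap.id_apply]
    congr 1
    simp only [φ, LinearMap.comp_apply, LinearEquiv.coe_coe, app_inv_app, LinearMap.proj_apply,
      Pi.single_apply, ite_smul, one_smul, zero_smul, e]
    exact if_congr eq_comm rfl rfl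
  have hRi : ∀ c a, c ≠ a → ∀ p d x, app (rt i LinearMap.id (e c) (LinearMap.proj a)) (cmp i j B p d x) =
      cmp i j B p d x + if p = a then cmp i j B c d x else 0 := by
    intro c a hca p d x
    rw [cmp_eq, rt_T (hε c a hca), LinearMap.id_apply]
    congr 1
    simp only [e, LinearMap.proj_apply, Pi.single_apply, ite_smul, one_smul, zero_smul]
    exact if_congr eq_comm rfl rfl
  have hδ : ∀ c a, c ≠ a → ∀ p d x, app (δ c a) (cmp i j B p d x) =
      cmp i j B p d x + (if d = a then cmp i j B p c x else 0) +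
        (if p = a then cmp i j B c d x else 0) +
        (if p = a ∧ d = a then cmp i j B c c x else 0) := by
    intro c a hca p d x
    rw [map_mul, LinearEquiv.mul_apply, hRl c a hca, map_add, hRi c a hca]
    by_cases hd : d = a <;> by_cases hp : p = a <;>
      simp [hd, hp, hRi c a hca, map_zero, -app_apply, add_assoc, add_left_comm]
  have hcomm : ∀ c a, c ≠ a → δ c a * y = y * δ c a := by
    intro c a hca
    have hyy : y * y = 1 := gl_ext fun x => by
      rw [map_mul, LinearEquiv.mul_apply, hsq, map_one]; rfl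
    have hyi : y⁻¹ = y := inv_eq_of_mul_eq_one_right hyy
    have e1 := conj_rt_one hy (hε c a hca)
    rw [hyi] at e1
    have e1' : y * rt i LinearMap.id (e c) (LinearMap.proj a) * y =
        rt l LinearMap.id (app B (e c)) (φ a) := e1
    have e2 : y * rt l LinearMap.id (app B (e c)) (φ a) * y =
        rt i LinearMap.id (e c) (LinearMap.proj a) := by
      calc y * rt l LinearMap.id (app B (e c)) (φ a) * y
          = (y * y) * rt i LinearMap.id (e c) (LinearMap.proj a) * (y * y) := by
            rw [← e1']; simp only [mul_assoc]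
        _ = _ := by rw [hyy, one_mul, mul_one]
    have hcom : rt l LinearMap.id (app B (e c)) (φ a) *
        rt i LinearMap.id (e c) (LinearMap.proj a) = δ c a := by
      refine gl_ext fun x => LinearMap.congr_fun (lin_ext_cmp (i := i) (j := j) (B := B)
        (f := (app _).toLinearMap) (g := (app _).toLinearMap) fun p d x => ?_) x
      simp only [LinearEquiv.coe_coe]
      rw [hδ c a hca, map_mul, LinearEquiv.mul_apply, hRi c a hca, map_add, hRl c a hca]
      by_cases hd : d = a <;> by_cases hp : p = a <;>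
        simp [hd, hp, hRl c a hca, map_zero, -app_apply, add_assoc]
    have e3 : y * δ c a * y = δ c a := by
      calc y * δ c a * y
          = y * rt i LinearMap.id (e c) (LinearMap.proj a) * (y * y) *
              rt l LinearMap.id (app B (e c)) (φ a) * y := by
            rw [hyy, mul_one]; simp only [δ, mul_assoc]
        _ = (y * rt i LinearMap.id (e c) (LinearMap.proj a) * y) *
              (y * rt l LinearMap.id (app B (e c)) (φ a) * y) := by simp only [mul_assoc]
        _ = δ c a := by rw [e1', e2, hcom]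
    calc δ c a * y = y * δ c a * (y * y) := by
          conv_lhs => rw [← e3]
          simp only [mul_assoc]
      _ = y * δ c a := by rw [hyy, mul_one]
  have hstab : ∀ c a, c ≠ a → δ c a ∈ stab F 3 (s + 2) := fun c a hca =>
    mul_mem (rt_one_mem_stab (hε c a hca)) (rt_one_mem_stab (hφ c a hca))
  -- `y` exchanges exactly
  have hsw : ∀ c d x, app y (cmp i j B c d x) = cmp i j B d c x := by
    intro c d x
    by_cases hcd : c = d
    · rw [hcd]; exact hdiag d x
    obtain ⟨x1, e1⟩ := hswap c d x
    obtain ⟨x2, e2⟩ := hswap d c x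
    have h1 := congrArg (fun g => coef i j B d c (app g (cmp i j B d d x))) (hcomm c d hcd)
    simp only [map_mul, LinearEquiv.mul_apply, hdiag, hδ c d hcd, if_true, map_add, e1, e2,
      coef_cmp, and_self] at h1
    simp [hcd, Ne.symm hcd] at h1
    rw [e1, ← h1]
  have hcy : ∀ p q z, coef i j B p q (app y z) = coef i j B q p z := fun p q z =>
    LinearMap.congr_fun (lin_ext_cmp (i := i) (j := j) (B := B)
      (f := coef i j B p q ∘ₗ (app y).toLinearMap) (g := coef i j B q p) fun c d x => by
      rw [LinearMap.comp_apply, LinearEquiv.coe_coe, hsw, coef_cmp, coef_cmp]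
      exact if_congr ⟨fun h => ⟨h.2, h.1⟩, fun h => ⟨h.2, h.1⟩⟩ rfl rfl) z
  have hcδ : ∀ c a, c ≠ a → ∀ k z, coef i j B k k (app (δ c a) z) = coef i j B k k z +
      if k = c then coef i j B c a z + coef i j B a c z + coef i j B a a z else 0 := by
    intro c a hca k z
    by_cases hk : k = c
    · subst hk
      rw [if_pos rfl]
      exact LinearMap.congr_fun (lin_ext_cmp (i := i) (j := j) (B := B)
        (f := coef i j B k k ∘ₗ (app (δ k a)).toLinearMap)
        (g := coef i j B k k + (coef i j B k a + coef i j B a k + coef i j B a a)) fun p d x => by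
        simp only [LinearMap.comp_apply, LinearEquiv.coe_coe, LinearMap.add_apply, hδ k a hca,
          map_add, coef_cmp]
        rcases eq_or_ne d a with hd | hd <;> rcases eq_or_ne p a with hp | hp
        · simp [hd, hp, coef_cmp, hca, hca.symm, eq_comm]
        · simp [hd, hp, hp.symm, coef_cmp, hca, hca.symm, eq_comm]
        · simp [hd, hp, hd.symm, coef_cmp, hca, hca.symm, eq_comm]
        · simp [hd, hp, hd.symm, hp.symm, coef_cmp]) z
    · rw [if_neg hk, add_zero]
      exact LinearMap.congr_fun (lin_ext_cmp (i := i) (j := j) (B := B)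
        (f := coef i j B k k ∘ₗ (app (δ c a)).toLinearMap) (g := coef i j B k k) fun p d x => by
        simp only [LinearMap.comp_apply, LinearEquiv.coe_coe, hδ c a hca, map_add, coef_cmp]
        by_cases hd : d = a <;> by_cases hp : p = a <;>
          simp [hd, hp, coef_cmp, map_zero, hk]) z
  -- the flag of `r`
  obtain ⟨i₀, u₀, α₀, hu₀, hα₀, h₀, hr'⟩ := hr
  have hker : ∃ e₀, α₀ e₀ = 0 ∧ e₀ ∉ F ∙ u₀ ∧ ∀ z, α₀ z = 0 → ∃ μ ν : F, μ • e₀ + ν • u₀ = z := by
    have hr2 : finrank F (LinearMap.ker α₀) = 2 := by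
      have h1 := LinearMap.finrank_range_add_finrank_ker α₀
      rw [LinearMap.range_eq_top.2 (LinearMap.surjective_of_ne_zero hα₀), finrank_top,
        Module.finrank_self, Module.finrank_fintype_fun_eq_card, Fintype.card_fin] at h1
      omega
    obtain ⟨e₀, h1, h2⟩ : ∃ e₀, α₀ e₀ = 0 ∧ e₀ ∉ F ∙ u₀ := by
      by_contra! hall
      have := Submodule.finrank_mono (show LinearMap.ker α₀ ≤ F ∙ u₀ from fun z hz => hall z hz)
      rw [hr2, finrank_span_singleton hu₀] at this
      omega
    refine ⟨e₀, h1, h2, fun z hz => Submodule.mem_span_pair.1 ?_⟩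
    suffices Submodule.span F ({e₀, u₀} : Set (Fin 3 → F)) = LinearMap.ker α₀ by
      rw [this]; exact hz
    refine Submodule.eq_of_le_of_finrank_eq (Submodule.span_le.2 ?_) ?_
    · rintro v (rfl | rfl)
      · exact h1
      · exact h₀
    · have hli : LinearIndependent F ![e₀, u₀] :=
        LinearIndependent.pair_iff.2 fun μ ν hμν => by
          by_cases hμ : μ = 0
          · subst hμ; simpa [hu₀] using hμν
          · refine absurd (Submodule.mem_span_singleton.2 ⟨-(μ⁻¹ * ν), ?_⟩) h2
            rw [neg_smul, ← smul_smul, ← smul_neg, inv_smul_eq_iff₀ hμ, neg_eq_iff_add_eq_zero,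
              add_comm]
            exact hμν
      rw [hr2]
      have := finrank_span_eq_card hli
      rwa [Matrix.range_cons_cons_empty, Fintype.card_fin] at this
  obtain ⟨e₀, he₀, he₀', hker⟩ := hker
  let W : (J 3 (s + 1) → F) →ₗ[F] (J 3 (s + 2) → F) := (app g).toLinearMap ∘ₗ (T i₀).flip u₀
  let E' : (J 3 (s + 1) → F) →ₗ[F] (J 3 (s + 2) → F) := (app g).toLinearMap ∘ₗ (T i₀).flip e₀
  have hresy : C4.res y = LinearMap.range W := by
    rw [hyg, hr', C4.res_conj, res_rt h₀ hα₀, LinearMap.range_comp, Li]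
  have hWi : Function.Injective W := fun a b h => T_inj_left hu₀ ((app g).injective h)
  have hWd : ∀ a k, coef i j B k k (W a) = 0 := fun a k => by
    have : W a ∈ C4.res y := hresy ▸ ⟨a, rfl⟩
    obtain ⟨x, hx⟩ := this
    rw [← hx]
    show coef i j B k k (app y x - x) = 0
    rw [map_sub, hcy, sub_self]
  have hEfix : ∀ a, app y (E' a) = E' a := fun a => by
    show app y (app g _) = app g _
    rw [hyg, map_mul, map_mul, LinearEquiv.mul_apply, LinearEquiv.mul_apply, app_inv_app, hr',
      rt_fix h₀ _ (by simp [he₀])]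
  have hEinj : ∀ a, (∀ k, coef i j B k k (E' a) = 0) → a = 0 := by
    intro a ha
    have hmem : E' a ∈ C4.res y := by
      refine ⟨cmp i j B 0 1 (coef i j B 0 1 (E' a)) + cmp i j B 0 2 (coef i j B 0 2 (E' a)) +
        cmp i j B 1 2 (coef i j B 1 2 (E' a)), ext_coef (i := i) (j := j) (B := B) fun p q => ?_⟩
      have hsym : coef i j B p q (E' a) = coef i j B q p (E' a) := by
        conv_lhs => rw [← hEfix a, hcy]
      simp only [LinearMap.sub_apply, LinearEquiv.coe_coe, LinearMap.id_apply, map_sub, map_add,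
        hsw, coef_cmp]
      fin_cases p <;> fin_cases q <;> simp [ha, neg_eq_self₂ h2] at hsym ⊢ <;> simp [hsym]
    rw [hresy] at hmem
    obtain ⟨a', ha'⟩ := hmem
    have h1 : T i₀ a' u₀ = T i₀ a e₀ := (app g).injective ha'
    by_contra ha0
    exact he₀' (mem_span_of_T_eq ha0 h1.symm)
  -- the action of the centralising elements on the flag
  have hact : ∀ c a, c ≠ a → ∃ (Y : GL (J 3 (s + 1)) F) (lam mu nu : F), lam ≠ 0 ∧
      (∀ b, app (δ c a) (W b) = lam • W (app Y b)) ∧
      ∀ b, app (δ c a) (E' b) = mu • E' (app Y b) + nu • W (app Y b) := by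
    intro c a hca
    set h := g⁻¹ * δ c a * g with hh
    obtain ⟨l', Y, C, hf⟩ := exists_form (hcent _ (hstab c a hca) (hcomm c a hca)) i₀
    have hrh : h * r * h⁻¹ = r := by
      have := hcomm c a hca
      rw [hyg] at this
      calc h * r * h⁻¹ = g⁻¹ * (δ c a * (g * r * g⁻¹)) * (δ c a)⁻¹ * g := by rw [hh]; group
        _ = r := by rw [this]; group
    rw [hr', conj_rt_one hf h₀] at hrh
    have hC0 : app C u₀ ≠ 0 := fun e => hu₀ ((app C).map_eq_zero_iff.1 e)
    have h0' : (α₀ ∘ₗ (app C⁻¹).toLinearMap) (app C u₀) = 0 := by simp [-app_apply, h₀]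
    have hα' : α₀ ∘ₗ (app C⁻¹).toLinearMap ≠ 0 := fun e => hα₀ (LinearMap.ext fun v => by
      simpa [-app_apply] using LinearMap.congr_fun e (app C v))
    have hres := congrArg C4.res hrh
    rw [res_rt h0' hα', res_rt h₀ hα₀] at hres
    obtain ⟨rfl, hsp⟩ := of_Li_le (by norm_num) hC0 hu₀ hres.le
    obtain ⟨lam, hlam⟩ := Submodule.mem_span_singleton.1 hsp
    have hCe : α₀ (app C e₀) = 0 := by
      have : Nonempty (J 3 (s + 1)) := ⟨fun _ => 0⟩
      obtain ⟨b, hb⟩ := exists_ne (0 : J 3 (s + 1) → F)
      have h3 := congrArg (fun k => app k (T l' b (app C e₀))) hrh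
      simp only [rt_T h0', rt_T h₀, LinearMap.comp_apply, LinearEquiv.coe_coe, app_inv_app, he₀,
        zero_smul, add_zero, left_eq_add, smul_eq_zero] at h3
      exact h3.resolve_right fun e => (T_eq_zero e).elim hb hu₀
    obtain ⟨mu, nu, hmn⟩ := hker _ hCe
    have hδg : ∀ x, app (δ c a) (app g x) = app g (app (g⁻¹ * δ c a * g) x) := fun x => by
      simp only [map_mul, LinearEquiv.mul_apply, app_app_inv]
    refine ⟨Y, lam, mu, nu, fun e => hC0 (by rw [← hlam, e, zero_smul]), fun b => ?_, fun b => ?_⟩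
    · simp only [W, LinearMap.comp_apply, LinearMap.flip_apply, LinearEquiv.coe_coe, hδg, hf,
        ← hlam, map_smul]
    · simp only [W, E', LinearMap.comp_apply, LinearMap.flip_apply, LinearEquiv.coe_coe, hδg, hf,
        ← hmn, map_smul, map_add]
  have : Nonempty (J 3 s) := ⟨fun _ => 0⟩
  obtain ⟨x, hx⟩ := exists_ne (0 : J 3 s → F)
  have hd : ∀ p q, ∃ b, W b = cmp i j B p q x + cmp i j B q p x := fun p q => by
    have : app y (cmp i j B p q x) - cmp i j B p q x ∈ LinearMap.range W := hresy ▸ C4.mem_res _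
    obtain ⟨b, hb⟩ := this
    exact ⟨b, by rw [hb, hsw, sub_eq_add_neg, neg_eq_self₂ h2]; exact add_comm _ _⟩
  choose d hd using hd
  have hdsymm : ∀ p q, d p q = d q p := fun p q => hWi (by rw [hd p q, hd q p]; exact add_comm _ _)
  have step : ∀ a b c : Fin 3, a ≠ b → a ≠ c → b ≠ c → ∀ k, k ≠ c →
      coef i j B k k (E' (d b c)) = 0 := by
    intro a b c hab hac hbc
    obtain ⟨Y, lam, mu, nu, hlam, hW, hE⟩ := hact c a hac.symm
    have hrel : ∀ w k, mu • coef i j B k k (E' (app Y w)) =
        coef i j B k k (E' w) + if k = c then coef i j B a a (E' w) else 0 := by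
      intro w k
      have h1 : coef i j B k k (app (δ c a) (E' w)) = mu • coef i j B k k (E' (app Y w)) := by
        rw [hE, map_add, map_smul, map_smul, hWd, smul_zero, add_zero]
      rw [← h1, hcδ c a hac.symm]
      congr 1
      split_ifs
      · have hsym : coef i j B c a (E' w) = coef i j B a c (E' w) := by
          conv_lhs => rw [← hEfix w, hcy]
        rw [hsym, ← two_smul F, h2, zero_smul, zero_add]
      · rfl
    have hY1 : app Y (d b c) = lam⁻¹ • d b c := by
      apply hWi
      rw [map_smul, eq_inv_smul_iff₀ hlam, ← hW, hd, map_add, hδ c a hac.symm, hδ c a hac.symm]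
      simp [hab.symm, hac.symm]
    have hY2 : app Y (d a b) = lam⁻¹ • (d a b + d b c) := by
      apply hWi
      rw [map_smul, eq_inv_smul_iff₀ hlam, ← hW, map_add, hd, hd, map_add, hδ c a hac.symm,
        hδ c a hac.symm]
      simp [hab.symm]
      abel
    have hmu : mu = lam := by
      by_contra hne
      have h1 : mu * lam⁻¹ ≠ 1 := fun e => hne (by
        rw [← div_eq_mul_inv, div_eq_one_iff_eq hlam] at e; exact e)
      have hz : ∀ k, k ≠ c → coef i j B k k (E' (d b c)) = 0 := fun k hk => by
        have := hrel (d b c) k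
        rw [hY1, map_smul, map_smul, smul_smul, if_neg hk, add_zero] at this
        exact (smul_eq_zero.1 (show (mu * lam⁻¹ - 1) • coef i j B k k (E' (d b c)) = 0 by
          rw [sub_smul, one_smul, this, sub_self])).resolve_left (sub_ne_zero.2 h1)
      have hzc : coef i j B c c (E' (d b c)) = 0 := by
        have := hrel (d b c) c
        rw [hY1, map_smul, map_smul, smul_smul, if_pos rfl, hz a hac, add_zero] at this
        exact (smul_eq_zero.1 (show (mu * lam⁻¹ - 1) • coef i j B c c (E' (d b c)) = 0 by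
          rw [sub_smul, one_smul, this, sub_self])).resolve_left (sub_ne_zero.2 h1)
      have h0 := hEinj _ fun k => if hk : k = c then hk ▸ hzc else hz k hk
      have h3 := congrArg (coef i j B b c) (hd b c)
      simp [h0, hbc, coef_cmp] at h3
      exact hx h3.symm
    intro k hk
    have := hrel (d a b) k
    rw [hY2, map_smul, map_smul, map_add, map_add, smul_smul, hmu, mul_inv_cancel₀ hlam, one_smul,
      if_neg hk, add_zero, add_eq_left] at this
    exact this
  have h0 := hEinj (d 1 2) fun k => by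
    by_cases hk : k = 2
    · rw [hdsymm]
      exact step 0 2 1 (by decide) (by decide) (by decide) k (by rw [hk]; decide)
    · exact step 0 1 2 (by decide) (by decide) (by decide) k hk
  have h3 := congrArg (coef i j B 1 2) (hd 1 2)
  simp [h0, coef_cmp] at h3
  exact hx h3.symm

/-- A conjugate of a decomposable element in the wreath group is decomposable, under the condition
on the centraliser. -/
theorem isDec_of_mem_Wr (hm : 3 ≤ m) {g r : GL (J m (t + 1)) F} (hr : IsDec r)
    (hW : g * r * g⁻¹ ∈ Wr F m (t + 1))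
    (hcent : ∀ δ ∈ stab F m (t + 1), δ * (g * r * g⁻¹) = g * r * g⁻¹ * δ →
      g⁻¹ * δ * g ∈ Wr F m (t + 1)) :
    IsDec (g * r * g⁻¹) := by
  set y := g * r * g⁻¹ with hyg
  have hrank : finrank F (C4.res y) = m ^ t := finrank_res_conj g hr
  have hfix : ∀ z ∈ C4.res y, app y z = z := fun z hz => fix_res_conj g hr hz
  by_cases hall : ∀ i, ∃ (X : GL (J m t) F) (B : GL (Fin m) F),
      ∀ a q, app y (T i a q) = T i (app X a) (app B q)
  · by_cases hsc : ∀ i, ∃ (X : GL (J m t) F) (B : GL (Fin m) F),
        (∀ a q, app y (T i a q) = T i (app X a) (app B q)) ∧ ∃ c : F, ∀ q, app B q = c • q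
    · exfalso
      obtain ⟨c, hc⟩ := eq_smul_of_scalar hm hsc
      have hres : C4.res y = ⊥ := le_bot_iff.1 (C4.res_le fun x => by
        rw [Submodule.mem_bot]
        have h1 := hfix _ (C4.mem_res x)
        rw [hc, hc] at h1
        have h2 : ((c - 1) * (c - 1)) • x = 0 := by
          linear_combination (norm := module) h1
        rcases smul_eq_zero.1 h2 with h | h
        · rw [hc, sub_eq_zero.1 (mul_self_eq_zero.1 h), one_smul, sub_self]
        · rw [h, map_zero, sub_zero])
      rw [hres, finrank_bot] at hrank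
      exact absurd hrank.symm (pow_pos (by omega) t).ne'
    · push Not at hsc
      obtain ⟨i, hi⟩ := hsc
      obtain ⟨X, B, hy⟩ := hall i
      obtain ⟨q, hq⟩ := exists_not_eigen (app B).toLinearMap (hi X B hy)
      exact isDec_of_diag hm hrank hfix hy hq
  push Not at hall
  obtain ⟨i, hi⟩ := hall
  exfalso
  obtain ⟨l, X, B, hy⟩ := exists_form hW i
  have hli : l ≠ i := fun e => by
    obtain ⟨a, q, h⟩ := hi X B
    exact h (e ▸ hy a q)
  cases t with
  | zero => exact hli ((Fin.fin_one_eq_zero l).trans (Fin.fin_one_eq_zero i).symm)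
  | succ s =>
    by_cases h2 : (2 : F) = 0
    · obtain ⟨j, rfl⟩ := Fin.exists_succAbove_eq hli
      exact not_swap hm h2 hr hyg hcent hy
    · have : Nonempty (Fin m) := ⟨⟨0, by omega⟩⟩
      obtain ⟨q, hq⟩ := exists_ne (0 : Fin m → F)
      obtain ⟨i₂, X₂, B₂, hy₂⟩ := exists_form hW l
      have hyy : ∀ x, app y (app y x) = (2 : F) • app y x - x := fun x => by
        have h1 := hfix _ (C4.mem_res x)
        rw [map_sub, sub_eq_iff_eq_add] at h1
        rw [h1, two_smul]
        abel
      have hBq : app B q ≠ 0 := fun e => hq ((app B).map_eq_zero_iff.1 e)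
      have hB2q : app B₂ (app B q) ≠ 0 := fun e => hBq ((app B₂).map_eq_zero_iff.1 e)
      refine not_Li_le_sup hm (q := q) hBq hB2q hli ?_ ?_ (j := i₂)
      · intro hi2 hsp
        obtain ⟨c, hc⟩ := Submodule.mem_span_singleton.1 hsp
        refine hli (of_Li_le (by omega) hq hBq ?_).1.symm
        rintro _ ⟨a, rfl⟩
        show T i a q ∈ Li l (app B q)
        have hc0 : c ≠ 0 := fun e => hBq (by rw [← hc, e, zero_smul])
        have h1 : T i a q = (2 : F) • app y (T i a q) - app y (app y (T i a q)) := by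
          rw [hyy]; abel
        rw [h1, hy, hy₂, hi2]
        refine Submodule.sub_mem _ (Submodule.smul_mem _ _ (T_mem_Li _ _ _)) ?_
        refine ⟨c⁻¹ • app X₂ (app X a), ?_⟩
        show T l (c⁻¹ • app X₂ (app X a)) (app B q) = _
        rw [map_smul, LinearMap.smul_apply]
        conv_lhs => rw [← hc, map_smul, inv_smul_smul₀ hc0]
      · rintro _ ⟨a, rfl⟩
        show T l a (app B q) ∈ _
        have h1 : T l a (app B q) =
            (2 : F)⁻¹ • (T i (app X⁻¹ a) q + app y (app y (T i (app X⁻¹ a) q))) := by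
          rw [hyy, add_sub_cancel, inv_smul_smul₀ h2, hy, app_app_inv]
        rw [h1, hy, hy₂, smul_add]
        exact Submodule.add_mem _ (Submodule.smul_mem _ _ (Submodule.mem_sup_left (T_mem_Li _ _ _)))
          (Submodule.smul_mem _ _ (Submodule.mem_sup_right (T_mem_Li _ _ _)))

end Cfsg.Agent.C7
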