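import Cfsg.Agent.Lib.C7.Coords
import Cfsg.Agent.Lib.Aschbacher.WreathFactors

/-!
# The standard tensor-wreath group in split coordinates

`Wr m t` is the wreath group, `stab m t` its determinant one part. The lines `Li i u` of different
positions meet in dimension `m ^ (t - 1)`.
-/

set_option autoImplicit false
set_option linter.unusedSectionVars false

namespace Cfsg.Agent.C7

open Matrix Module Cfsg.Agent.Transvect
open scoped MatrixGroups

variable {F : Type*} [Field F] {m t s : ℕ}

/-- The stabiliser of the standard tensor power decomposition. -/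
abbrev Wr (F : Type*) [Field F] (m t : ℕ) : Subgroup (GL (J m t) F) :=
  Cfsg.Geo.tensorWreathStandard m t F

/-- Its determinant one part. -/
abbrev stab (F : Type*) [Field F] (m t : ℕ) : Subgroup (GL (J m t) F) :=
  Wr F m t ⊓ Cfsg.Geo.specialLinear (J m t) F

lemma kr_one_mem (i : Fin (t + 1)) (B : GL (Fin m) F) : kr i 1 B ∈ Wr F m (t + 1) := by
  refine Subgroup.subset_closure (Or.inl ⟨i.insertNth B fun _ => 1, fun f g => ?_⟩)
  rw [kr_val, Fin.prod_univ_succAbove _ i]
  simp only [Fin.insertNth_apply_same, Fin.insertNth_apply_succAbove, Units.val_one]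
  congr 1
  rw [Matrix.one_apply]
  split_ifs with h
  · exact (Finset.prod_eq_one fun j _ => by rw [congrFun h j, Matrix.one_apply_eq]).symm
  · obtain ⟨j, hj⟩ := Function.ne_iff.1 h
    exact (Finset.prod_eq_zero (Finset.mem_univ j) (by rw [Matrix.one_apply_ne hj])).symm

/-- Extend a permutation by a fixed point. -/
noncomputable def extPerm (i : Fin (t + 1)) (σ : Equiv.Perm (Fin t)) : Equiv.Perm (Fin (t + 1)) :=
  Equiv.ofBijective (i.insertNth i fun j => i.succAbove (σ j)) (Finite.injective_iff_bijective.1 (by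
    intro p q h
    obtain hp | ⟨p', rfl⟩ := i.eq_self_or_eq_succAbove p <;>
      obtain hq | ⟨q', rfl⟩ := i.eq_self_or_eq_succAbove q
    · rw [hp, hq]
    · rw [hp, Fin.insertNth_apply_same, Fin.insertNth_apply_succAbove] at h
      exact absurd h.symm (i.succAbove_ne _)
    · rw [hq, Fin.insertNth_apply_same, Fin.insertNth_apply_succAbove] at h
      exact absurd h (i.succAbove_ne _)
    · rw [Fin.insertNth_apply_succAbove, Fin.insertNth_apply_succAbove] at h
      rw [σ.injective (Fin.succAbove_right_injective h)]))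

lemma extPerm_self (i : Fin (t + 1)) (σ : Equiv.Perm (Fin t)) : extPerm i σ i = i := by
  simp [extPerm]

lemma extPerm_succAbove (i : Fin (t + 1)) (σ : Equiv.Perm (Fin t)) (j : Fin t) :
    extPerm i σ (i.succAbove j) = i.succAbove (σ j) := by
  simp [extPerm]

/-- The action of a factor permutation. -/
lemma app_perm {σ : Equiv.Perm (Fin t)} {g : GL (J m t) F}
    (h : ∀ x y : J m t, (g : Matrix (J m t) (J m t) F) x y = if y = x ∘ σ then 1 else 0)
    (x : J m t → F) : app g x = fun f => x (f ∘ σ) := by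
  funext f
  simp [Matrix.mulVec, dotProduct, h]

lemma kr_left_mem (i : Fin (t + 1)) {A : GL (J m t) F} (hA : A ∈ Wr F m t) :
    kr i A 1 ∈ Wr F m (t + 1) := by
  induction hA using Subgroup.closure_induction with
  | mem A hA =>
    rcases hA with ⟨gs, hgs⟩ | ⟨σ, hσ⟩
    · refine Subgroup.subset_closure (Or.inl ⟨i.insertNth 1 gs, fun f g => ?_⟩)
      rw [kr_val, Fin.prod_univ_succAbove _ i, hgs]
      simp only [Fin.insertNth_apply_same, Fin.insertNth_apply_succAbove]
    · refine Subgroup.subset_closure (Or.inr ⟨extPerm i σ, fun f g => ?_⟩)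
      rw [kr_val, hσ, Units.val_one, Matrix.one_apply]
      by_cases hfg : g = f ∘ extPerm i σ
      · rw [if_pos hfg, if_pos, if_pos, mul_one]
        · funext j; simp [hfg, extPerm_succAbove]
        · simp [hfg, extPerm_self]
      · rw [if_neg hfg]
        by_cases h1 : f i = g i
        · rw [if_pos h1, if_neg, mul_zero]
          intro h2
          refine hfg (funext fun p => ?_)
          obtain hp | ⟨p', rfl⟩ := i.eq_self_or_eq_succAbove p
          · simp [hp, extPerm_self, h1]
          · simpa [extPerm_succAbove] using congrFun h2 p'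
        · rw [if_neg h1, zero_mul]
  | one => rw [kr_one]; exact one_mem _
  | mul A A' _ _ hA hA' =>
    rw [show kr i (A * A') (1 : GL (Fin m) F) = kr i A 1 * kr i A' 1 by rw [kr_mul, mul_one]]
    exact mul_mem hA hA'
  | inv A _ hA =>
    rw [show kr i A⁻¹ (1 : GL (Fin m) F) = (kr i A 1)⁻¹ by rw [kr_inv, inv_one]]
    exact inv_mem hA

lemma kr_mem (i : Fin (t + 1)) {A : GL (J m t) F} (hA : A ∈ Wr F m t) (B : GL (Fin m) F) :
    kr i A B ∈ Wr F m (t + 1) := by
  rw [show kr i A B = kr i A 1 * kr i 1 B by rw [kr_mul, mul_one, one_mul]]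
  exact mul_mem (kr_left_mem i hA) (kr_one_mem i B)

/-- A wreath element carrying position `i` to position `l`. -/
lemma exists_perm (i l : Fin (t + 1)) :
    ∃ p ∈ Wr F m (t + 1), ∀ a u, app p (T i a u) = T l a u := by
  let τ : Equiv.Perm (Fin (t + 1)) := (finSuccEquiv' i).trans (finSuccEquiv' l).symm
  let P : Matrix (J m (t + 1)) (J m (t + 1)) F := Matrix.of fun x y => if y = x ∘ τ then 1 else 0
  let Q : Matrix (J m (t + 1)) (J m (t + 1)) F :=
    Matrix.of fun x y => if y = x ∘ τ.symm then 1 else 0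
  have hPQ : P * Q = 1 := by
    ext x z
    rw [Matrix.mul_apply, Finset.sum_eq_single (x ∘ τ)]
    · simp only [P, Q, Matrix.of_apply, if_true, one_mul, Matrix.one_apply]
      exact if_congr ⟨fun h => by rw [h]; funext j; simp, fun h => by rw [← h]; funext j; simp⟩
        rfl rfl
    · intro y _ hy; simp [P, hy]
    · simp
  let r : GL (J m (t + 1)) F := ⟨P, Q, hPQ, mul_eq_one_comm.1 hPQ⟩
  have hr : ∀ x y, (r : Matrix (J m (t + 1)) (J m (t + 1)) F) x y = if y = x ∘ τ then 1 else 0 :=
    fun x y => rfl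
  refine ⟨r, Subgroup.subset_closure (Or.inr ⟨τ, hr⟩), fun a u => ?_⟩
  rw [app_perm hr]
  funext f
  simp [T_apply, τ]

section Form

variable [Fintype F]

/-- Wreath elements carry split pure tensors to split pure tensors. -/
lemma exists_form {h : GL (J m (t + 1)) F} (hh : h ∈ Wr F m (t + 1)) :
    ∀ i, ∃ (l : Fin (t + 1)) (X : GL (J m t) F) (B : GL (Fin m) F),
      ∀ a q, app h (T i a q) = T l (app X a) (app B q) := by
  have : Finite (GL (J m (t + 1)) F) := Finite.of_injective Units.val Units.val_injective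
  rw [← Subgroup.mem_toSubmonoid, Wr, Cfsg.Geo.tensorWreathStandard,
    Subgroup.closure_toSubmonoid_of_finite] at hh
  induction hh using Submonoid.closure_induction with
  | mem h hh =>
    intro i
    rcases hh with ⟨gs, hgs⟩ | ⟨σ, hσ⟩
    · refine ⟨i, Aschbacher.pureUnit fun j => gs (i.succAbove j), gs i, fun a q => ?_⟩
      have : h = kr i (Aschbacher.pureUnit fun j => gs (i.succAbove j)) (gs i) := by
        refine Units.ext (Matrix.ext fun f g => ?_)
        rw [hgs, kr_val, Fin.prod_univ_succAbove _ i]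
        rfl
      rw [this, app_kr]
    · choose τ hτ using fun j => Fin.exists_succAbove_eq
        (show σ (i.succAbove j) ≠ σ i from fun h => i.succAbove_ne j (σ.injective h))
      have hτi : Function.Injective τ := fun p q h => Fin.succAbove_right_injective
        (σ.injective (by rw [← hτ p, ← hτ q, h]))
      let f : (J m t → F) →ₗ[F] (J m t → F) := LinearMap.funLeft F F fun g => g ∘ τ
      have hf : Function.Injective f := by
        refine LinearMap.funLeft_injective_of_surjective F F _ fun g => ?_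
        let e := Equiv.ofBijective τ (Finite.injective_iff_bijective.1 hτi)
        exact ⟨g ∘ e.symm, funext fun j => congrArg g (e.symm_apply_apply j)⟩
      obtain ⟨X, hX⟩ := exists_gl f hf
      refine ⟨σ i, X, 1, fun a q => ?_⟩
      rw [app_perm hσ, hX]
      funext g
      simp only [T_apply, f, LinearMap.funLeft_apply, Function.comp_apply, map_one,
        LinearEquiv.coe_one, id_eq]
      congr 2
      funext j
      show g (σ (i.succAbove j)) = g ((σ i).succAbove (τ j))
      rw [hτ j]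
  | one => exact fun i => ⟨i, 1, 1, fun a q => by simp⟩
  | mul g h _ _ hg hh =>
    intro i
    obtain ⟨l, X, B, e⟩ := hh i
    obtain ⟨l', X', B', e'⟩ := hg l
    exact ⟨l', X' * X, B' * B, fun a q => by
      simp only [map_mul, LinearEquiv.mul_apply, e, e']⟩

end Form

/-! ### Lines in different positions -/

lemma mem_Li_pointwise {k : Fin (t + 1)} {u : Fin m → F} {x : J m (t + 1) → F}
    (φ : J m (t + 1) → F) (hφ : ∀ f g, (∀ p, p ≠ k → f p = g p) → φ f = φ g)
    (hx : ∀ f, x f = φ f * u (f k)) : x ∈ Li k u := by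
  rcases isEmpty_or_nonempty (Fin m) with he | ⟨⟨c⟩⟩
  · exact ⟨0, funext fun f => (he.false (f k)).elim⟩
  refine ⟨fun g => φ (ins k c g), funext fun f => ?_⟩
  rw [hx]
  show φ (ins k c fun j => f (k.succAbove j)) * u (f k) = _
  rw [hφ _ f fun p hp => ?_]
  obtain ⟨j, rfl⟩ := Fin.exists_succAbove_eq hp
  simp [ins]

lemma nested_mem (i : Fin (s + 2)) (j : Fin (s + 1)) (c : J m s → F) (u q : Fin m → F) :
    T i (T j c u) q ∈ Li (i.succAbove j) u := by
  refine mem_Li_pointwise (fun f => c (fun r => f (i.succAbove (j.succAbove r))) * q (f i))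
    (fun f g hfg => ?_) fun f => by simp [T_apply]; ring
  rw [hfg i (i.succAbove_ne j).symm]
  congr 2
  funext r
  exact hfg _ fun h => j.succAbove_ne r (Fin.succAbove_right_injective h)

lemma ct_mem_Li (i : Fin (s + 2)) (j : Fin (s + 1)) (γ : (Fin m → F) →ₗ[F] F) {v : Fin m → F}
    {x : J m (s + 2) → F} (hx : x ∈ Li (i.succAbove j) v) : ct i γ x ∈ Li j v := by
  obtain ⟨a, rfl⟩ := hx
  refine mem_Li_pointwise
    (fun h => γ fun c => a fun p => ins i c h ((i.succAbove j).succAbove p))
    (fun h h' hh => ?_) fun h => ?_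
  · refine congrArg γ (funext fun c => congrArg a (funext fun p => ?_))
    obtain hp | ⟨q, hq⟩ := i.eq_self_or_eq_succAbove ((i.succAbove j).succAbove p)
    · simp [hp, ins]
    · simp only [hq, ins, Fin.insertNth_apply_succAbove]
      exact hh q fun e => (i.succAbove j).succAbove_ne p (by rw [hq, e])
  · show γ (fun c => a (fun p => ins i c h ((i.succAbove j).succAbove p)) *
      v (ins i c h (i.succAbove j))) = _
    simp only [ins, Fin.insertNth_apply_succAbove]
    rw [mul_comm (γ _) (v (h j)), ← smul_eq_mul, ← map_smul]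
    exact congrArg γ (funext fun c => mul_comm _ _)

lemma finrank_inf_Li_le {i l : Fin (s + 2)} (hl : l ≠ i) {u v : Fin m → F} (hu : u ≠ 0)
    (hv : v ≠ 0) : finrank F (Li i u ⊓ Li l v : Submodule F (J m (s + 2) → F)) ≤ m ^ s := by
  obtain ⟨j, rfl⟩ := Fin.exists_succAbove_eq hl
  have hle : Li i u ⊓ Li (i.succAbove j) v ≤ (Li j v).map ((T i).flip u) := by
    rintro x ⟨⟨a, rfl⟩, hx⟩
    obtain ⟨γ, hγ⟩ := exists_dual hu
    refine ⟨a, ?_, rfl⟩
    have := ct_mem_Li i j γ hx
    simpa [hγ] using this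
  refine (Submodule.finrank_mono hle).trans ((Submodule.finrank_map_le _ _).trans ?_)
  rw [finrank_Li j hv]

lemma finrank_map_ct_le {i l : Fin (s + 2)} (hl : l ≠ i) (γ : (Fin m → F) →ₗ[F] F)
    {v : Fin m → F} (hv : v ≠ 0) : finrank F ((Li l v).map (ct i γ)) ≤ m ^ s := by
  obtain ⟨j, rfl⟩ := Fin.exists_succAbove_eq hl
  rw [← finrank_Li j hv]
  refine Submodule.finrank_mono ?_
  rintro _ ⟨x, hx, rfl⟩
  exact ct_mem_Li i j γ hx

lemma inf_Li_ne_bot {i l : Fin (s + 2)} (hl : l ≠ i) {u v : Fin m → F} (hu : u ≠ 0) (hv : v ≠ 0) :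
    Li i u ⊓ Li l v ≠ ⊥ := by
  obtain ⟨j, rfl⟩ := Fin.exists_succAbove_eq hl
  obtain ⟨c, hc⟩ : ∃ c : J m s → F, c ≠ 0 := by
    obtain ⟨e, -⟩ := Function.ne_iff.1 hu
    exact ⟨fun _ => 1, fun h => one_ne_zero (congrFun h fun _ => e)⟩
  intro h
  have : T i (T j c v) u ∈ Li i u ⊓ Li (i.succAbove j) v :=
    ⟨T_mem_Li _ _ _, nested_mem i j c v u⟩
  rw [h, Submodule.mem_bot] at this
  rcases T_eq_zero this with h1 | h1
  · exact (T_eq_zero h1).elim hc hv
  · exact hu h1

lemma mem_span_of_T_eq {i : Fin (t + 1)} {a b : J m t → F} {u v : Fin m → F} (ha : a ≠ 0)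
    (h : T i a u = T i b v) : u ∈ F ∙ v := by
  obtain ⟨ψ, hψ⟩ := exists_dual ha
  have := congrArg (lc i ψ) h
  rw [lc_T, lc_T, hψ, one_smul] at this
  rw [this]
  exact Submodule.smul_mem _ _ (Submodule.mem_span_singleton_self v)

/-- A line lies in another only if they are equal. -/
lemma of_Li_le (hm : 2 ≤ m) {i j : Fin (t + 1)} {u v : Fin m → F} (hu : u ≠ 0) (hv : v ≠ 0)
    (h : Li i u ≤ Li j v) : i = j ∧ u ∈ F ∙ v := by
  by_cases hij : i = j
  · subst hij
    refine ⟨rfl, ?_⟩
    have : Nonempty (J m t) := ⟨fun _ => ⟨0, by omega⟩⟩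
    obtain ⟨a, ha⟩ := exists_ne (0 : J m t → F)
    obtain ⟨b, hb⟩ := h (T_mem_Li i a u)
    exact mem_span_of_T_eq ha hb.symm
  · cases t with
    | zero => exact absurd (Fin.fin_one_eq_zero i ▸ (Fin.fin_one_eq_zero j).symm) hij
    | succ s =>
      exfalso
      have h1 := finrank_inf_Li_le (Ne.symm hij) hu hv
      rw [inf_eq_left.2 h, finrank_Li i hu, pow_succ] at h1
      have : 0 < m ^ s := pow_pos (by omega) s
      nlinarith

lemma exists_kill₂ (hm : 3 ≤ m) (u v : Fin m → F) :
    ∃ β : (Fin m → F) →ₗ[F] F, β ≠ 0 ∧ β u = 0 ∧ β v = 0 := by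
  obtain ⟨w, hw⟩ := C4.TData.exists_indep hm u v
  obtain ⟨β, h1, h2⟩ := Submodule.exists_le_ker_of_notMem hw
  exact ⟨β, fun e => h1 (by rw [e]; rfl), h2 (Submodule.subset_span (by simp)),
    h2 (Submodule.subset_span (by simp))⟩

/-- A line lies in the sum of two others only trivially. -/
lemma not_Li_le_sup (hm : 3 ≤ m) {i l j : Fin (t + 1)} {q v r : Fin m → F} (hv : v ≠ 0) (hr : r ≠ 0)
    (hli : l ≠ i) (hjl : j = l → v ∉ F ∙ r) : ¬ Li l v ≤ Li i q ⊔ Li j r := by
  cases t with
  | zero => exact absurd (Fin.fin_one_eq_zero l ▸ (Fin.fin_one_eq_zero i).symm) hli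
  | succ s =>
    intro hle
    obtain ⟨l', rfl⟩ := Fin.exists_succAbove_eq hli
    obtain ⟨α, hα, hαq, hαr⟩ := exists_kill₂ hm q r
    obtain ⟨w, hw⟩ := LinearMap.surjective_of_ne_zero hα 1
    have himg : ∀ c, T l' c v ∈ (Li i q ⊔ Li j r).map (ct i α) := fun c =>
      ⟨T i (T l' c v) w, hle (nested_mem i l' c v w), by rw [ct_T, hw, one_smul]⟩
    obtain hji | ⟨j', rfl⟩ := i.eq_self_or_eq_succAbove j
    · have : Nonempty (J m s) := ⟨fun _ => ⟨0, by omega⟩⟩
      obtain ⟨c, hc⟩ := exists_ne (0 : J m s → F)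
      obtain ⟨x, hx, hxe⟩ := himg c
      obtain ⟨y, hy, z, hz, rfl⟩ := Submodule.mem_sup.1 hx
      rw [map_add, ct_Li hαq hy, ct_Li hαr (hji ▸ hz), add_zero] at hxe
      exact (T_eq_zero hxe.symm).elim hc hv
    · have hle' : Li l' v ≤ Li j' r := by
        rintro _ ⟨c, rfl⟩
        obtain ⟨x, hx, hxe⟩ := himg c
        obtain ⟨y, hy, z, hz, rfl⟩ := Submodule.mem_sup.1 hx
        rw [map_add, ct_Li hαq hy, zero_add] at hxe
        exact hxe ▸ ct_mem_Li i j' α hz
      obtain ⟨h1, h2⟩ := of_Li_le (by omega) hv hr hle'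
      exact hjl (by rw [h1]) h2

end Cfsg.Agent.C7
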